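import Groth.Agent.MilnorKLambda.Mult
import Groth.Agent.RefRank.Ord
import Mathlib.RingTheory.Ideal.AssociatedPrime.Finiteness
import Mathlib.RingTheory.Ideal.MinimalPrime.Localization
import Mathlib.RingTheory.LocalRing.ResidueField.Ideal
import Mathlib.RingTheory.OrderOfVanishing.Basic

/-!
# Lengths over a one-dimensional local ring without embedded primes
-/

set_option autoImplicit false
universe u

open IsLocalRing Pointwise

namespace Groth.MilnorKLambda.Key

open Groth.MilnorKLambda

variable {A : Type u} [CommRing A] [IsNoetherianRing A] [IsLocalRing A] (hA : ringKrullDim A = 1)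
include hA

theorem minimal_iff_ne_maximal (p : PrimeSpectrum A) : p.asIdeal ∈ minimalPrimes A ↔ p.asIdeal ≠ maximalIdeal A := by
  constructor
  · intro h e
    have h2 := IsLocalRing.maximalIdeal_height_eq_ringKrullDim (R := A)
    rw [← e, Ideal.height_eq_zero_iff.2 h, hA] at h2
    exact absurd h2 (by decide)
  · intro h
    rcases Ring.krullDimLE_one_iff.1 ((Ring.krullDimLE_iff).2 hA.le : Ring.KrullDimLE 1 A) p.asIdeal p.2 with hm | hm
    · exact hm
    · exact absurd (eq_maximalIdeal hm) h

variable {M : Type u} [AddCommGroup M] [Module A M] [Module.Finite A M]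
  (hsupp : Module.support A M = Set.univ) (hMemb : ∀ p ∈ associatedPrimes A M, p ∈ minimalPrimes A)

omit hA [IsLocalRing A] [Module.Finite A M] in
theorem smul_injective (hMemb : ∀ p ∈ associatedPrimes A M, p ∈ minimalPrimes A) {a : A} (ha : a ∈ nonZeroDivisors A) {m : M}
    (hm : a • m = 0) : m = 0 := by
  by_contra hne
  obtain ⟨p, hp, hle⟩ := exists_le_isAssociatedPrime_of_isNoetherianRing A m hne
  exact absurd ha (notMem_nonZeroDivisors_of_mem_mem_minimalPrimes
    (hle (by rw [Submodule.mem_colon_singleton, Submodule.mem_bot]; exact hm)) (hMemb p hp))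

open scoped Classical in
include hsupp hMemb in
theorem length_smul_quot {a : A} (ha : a ∈ nonZeroDivisors A) (s : Finset (PrimeSpectrum A))
    (hs : ∀ p : PrimeSpectrum A, p ∈ s ↔ p.asIdeal ∈ minimalPrimes A) :
    Module.length A (M ⧸ a • (⊤ : Submodule A M)) ≠ ⊤ ∧
    ((Module.length A (M ⧸ a • (⊤ : Submodule A M))).toNat : ℤ) = ∑ p ∈ s,
      ((Module.length (Localization.AtPrime p.asIdeal) (LocalizedModule p.asIdeal.primeCompl M)).toNat : ℤ) *
        ((Ring.ord (A ⧸ p.asIdeal) (Ideal.Quotient.mk p.asIdeal a)).toNat : ℤ) := by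
  have h1 : Module.supportDim A M ≤ 1 := (Module.supportDim_le_ringKrullDim A M).trans hA.le
  have hq : ∀ p ∈ Module.support A (M ⧸ a • (⊤ : Submodule A M)), p.asIdeal = maximalIdeal A := by
    intro p hp
    change p ∈ Module.support A (QuotSMulTop a M) at hp
    rw [Module.support_quotSMulTop] at hp
    by_contra hne
    exact absurd ha (notMem_nonZeroDivisors_of_mem_mem_minimalPrimes
      (hp.2 (Set.mem_singleton a) : a ∈ p.asIdeal) ((minimal_iff_ne_maximal hA p).2 hne))
  have h0 : Module.supportDim A (M ⧸ a • (⊤ : Submodule A M)) ≤ 0 := by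
    have : Subsingleton (Module.support A (M ⧸ a • (⊤ : Submodule A M))) :=
      ⟨fun p q => Subtype.ext (PrimeSpectrum.ext ((hq p p.2).trans (hq q q.2).symm))⟩
    exact Order.krullDim_nonpos_of_subsingleton
  have h := Per.length_quot_smul_eq M a h1 h0
  have hker : Module.length A (LinearMap.ker (LinearMap.lsmul A M a)) = 0 := by
    rw [Module.length_eq_zero_iff, Submodule.subsingleton_iff_eq_bot, LinearMap.ker_eq_bot']
    exact fun m hm => smul_injective hMemb ha hm
  rw [hker, zero_add] at h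
  have htop := Per.length_ne_top_of_support hq
  have hcond : ∀ p : PrimeSpectrum A, (p ∈ Module.support A M ∧ p.asIdeal ≠ maximalIdeal A) ↔ p ∈ s := fun p => by
    rw [hs, minimal_iff_ne_maximal hA, hsupp]; simp
  rw [finsum_cond_eq_sum_of_cond_iff _ fun {p} _ => hcond p] at h
  refine ⟨htop, ?_⟩
  rw [h] at htop
  rw [h]
  have hne : ∀ p ∈ s, Ring.ord (A ⧸ p.asIdeal) (Ideal.Quotient.mk p.asIdeal a) * Per.lq p.asIdeal M ≠ ⊤ :=
    fun p hp hc => htop (by rw [← Finset.add_sum_erase _ _ hp, hc, top_add])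
  have key : ∀ (t : Finset (PrimeSpectrum A)) (f : PrimeSpectrum A → ℕ∞), (∀ p ∈ t, f p ≠ ⊤) →
      (∑ p ∈ t, f p).toNat = ∑ p ∈ t, (f p).toNat := fun t f hf => by
    have : ∑ p ∈ t, f p = ((∑ p ∈ t, (f p).toNat : ℕ) : ℕ∞) := by
      rw [Nat.cast_sum]; exact Finset.sum_congr rfl fun i hi => (ENat.natCast_toNat (hf i hi)).symm
    rw [this, ENat.toNat_coe]
  rw [key _ _ hne, Nat.cast_sum]
  exact Finset.sum_congr rfl fun p _ => by rw [ENat.toNat_mul, Nat.cast_mul, mul_comm]; rfl

end Groth.MilnorKLambda.Key
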