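import Groth.Agent.MilnorKLambda.Key.Transfer

/-!
# The key lemma
-/

set_option autoImplicit false
universe u

open IsLocalRing CycAlg

namespace Groth.MilnorKLambda.Key

open Groth.MilnorKLambda

attribute [local instance] Amb.isLocalHom_atPrime

variable {A : Type u} [CommRing A] [IsNoetherianRing A] [IsLocalRing A]

/-- The term at a prime of `A`. -/
noncomputable def term (a b : A) (q : PrimeSpectrum A) : ℤ :=
  CycAlg.ordFrac (A ⧸ q.asIdeal) q.asIdeal.ResidueField (CycAlg.tameSymbol (Localization.AtPrime q.asIdeal)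
    (algebraMap A (Localization.AtPrime q.asIdeal) a) (algebraMap A (Localization.AtPrime q.asIdeal) b))

theorem height_eq_one_iff (hA : ringKrullDim A = 2) {t : A} (ht : t ∈ nonZeroDivisors A) (q : PrimeSpectrum A)
    (htq : t ∈ q.asIdeal) : q.asIdeal.height = 1 ↔ Good q.asIdeal := by
  have hnm : q.asIdeal ∉ minimalPrimes A := fun h => notMem_nonZeroDivisors_of_mem_mem_minimalPrimes htq h ht
  constructor
  · intro h
    refine ⟨q.2, fun hmax => ?_, hnm⟩
    have h2 := IsLocalRing.maximalIdeal_height_eq_ringKrullDim (R := A)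
    rw [← eq_maximalIdeal hmax, h, hA] at h2
    exact absurd h2 (by decide)
  · intro h
    have := krullDimLE_one_atPrime (C := A) hA h.2.1
    have h1 : ringKrullDim (Localization.AtPrime q.asIdeal) ≤ 1 := (Ring.krullDimLE_iff).1 this
    rw [IsLocalization.AtPrime.ringKrullDim_eq_height q.asIdeal (Localization.AtPrime q.asIdeal)] at h1
    refine le_antisymm (WithBot.coe_le_coe.1 h1) (Order.one_le_iff_ne_zero.2 fun h0 => hnm ?_)
    exact Ideal.height_eq_zero_iff.1 h0

theorem term_eq_zero (hA : ringKrullDim A = 2) (a b : A) (q : PrimeSpectrum A) (h : q.asIdeal.height = 1)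
    (hab : a * b ∉ q.asIdeal) : term a b q = 0 := by
  have hnm : q.asIdeal ∉ minimalPrimes A := fun hm => by
    rw [Ideal.height_eq_zero_iff.2 hm] at h; exact zero_ne_one h
  have := krullDimLE_one_quot hA hnm
  have hmax : ¬ q.asIdeal.IsMaximal := fun hmax => by
    have h2 := IsLocalRing.maximalIdeal_height_eq_ringKrullDim (R := A)
    rw [← eq_maximalIdeal hmax, h, hA] at h2
    exact absurd h2 (by decide)
  have := krullDimLE_one_atPrime (C := A) hA hmax
  have : IsNoetherianRing (Localization.AtPrime q.asIdeal) := IsLocalization.isNoetherianRing q.asIdeal.primeCompl _ inferInstance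
  rw [term, Amb.tameSymbol_units
    ((IsLocalization.AtPrime.isUnit_to_map_iff _ q.asIdeal a).2 fun h' => hab (Ideal.mul_mem_right _ _ h'))
    ((IsLocalization.AtPrime.isUnit_to_map_iff _ q.asIdeal b).2 fun h' => hab (Ideal.mul_mem_left _ _ h'))]
  exact Groth.RefRank.ordFrac_one'

/-- Pulling factorisations back along an isomorphism of local rings. -/
theorem exists_pull {L L' : Type u} [CommRing L] [IsLocalRing L] [CommRing L'] [IsLocalRing L'] (φ : L →+* L')
    [IsLocalHom φ] (hφ : Function.Bijective φ) {γ x y : L'} (hγ : γ ∈ nonZeroDivisors L') {x₀ y₀ : L}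
    (hx : φ x₀ = x) (hy : φ y₀ = y) (F : Amb.Fact γ x) (G : Amb.Fact γ y) :
    ∃ π ∈ nonZeroDivisors L, ∃ (F₀ : Amb.Fact π x₀) (G₀ : Amb.Fact π y₀),
      ResidueField.map φ (F₀.val G₀) = F.val G := by
  obtain ⟨π, hπ⟩ := hφ.2 γ
  let e := RingEquiv.ofBijective φ hφ
  have hu : ∀ u : L'ˣ, φ (e.symm (u : L')) = u := fun u => e.apply_symm_apply _
  refine ⟨π, mem_nonZeroDivisors_iff_right.2 fun z hz => hφ.1 (by
    rw [map_zero]
    exact (mem_nonZeroDivisors_iff_right.1 hγ) _ (by rw [← hπ, ← map_mul, hz, map_zero])),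
    ⟨Units.map e.symm.toRingHom.toMonoidHom F.u, F.e, hφ.1 (by
      rw [hx, map_mul, map_pow, hπ]; conv_lhs => rw [F.fac]
      congr 1; exact (hu _).symm)⟩,
    ⟨Units.map e.symm.toRingHom.toMonoidHom G.u, G.e, hφ.1 (by
      rw [hy, map_mul, map_pow, hπ]; conv_lhs => rw [G.fac]
      congr 1; exact (hu _).symm)⟩, ?_⟩
  rw [Amb.Fact.val, map_pow, ← Amb.Fact.expr_map, Amb.Fact.val,
    show Ring.ord L' γ = Ring.ord L π by rw [← hπ, ord_map_of_bijective φ hφ]]
  congr 1
  simp only [Amb.Fact.expr, Amb.Fact.res, Amb.Fact.map, Units.coe_map, RingHom.toMonoidHom_eq_coe,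
    MonoidHom.coe_coe, RingEquiv.toRingHom_eq_coe, RingHom.coe_coe, hu]

/-- The comparison at one maximal ideal of the local extension. -/
theorem local_term (hA : ringKrullDim A = 2) {C : Type u} [CommRing C] [Algebra A C] [Module.Finite A C]
    (q : Ideal A) [q.IsPrime] {B : Type u} [CommRing B] [Algebra (Localization.AtPrime q) B]
    [Module.Finite (Localization.AtPrime q) B] (ψ : C →+* B)
    (hψ : ∀ x : A, ψ (algebraMap A C x) = algebraMap (Localization.AtPrime q) B (algebraMap A _ x))
    (hs : ∀ y : B, ∃ s ∈ q.primeCompl, ∃ c : C, ψ c = algebraMap (Localization.AtPrime q) B (algebraMap A _ s) * y)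
    (hk : ∀ c : C, ψ c = 0 → ∃ s ∈ q.primeCompl, algebraMap A C s * c = 0)
    (M : Ideal B) [M.IsMaximal] (hgood : Good (M.comap ψ)) (a b : A) {γ : Localization.AtPrime M}
    (hγ : γ ∈ nonZeroDivisors (Localization.AtPrime M))
    (F : Amb.Fact γ (algebraMap (Localization.AtPrime q) (Localization.AtPrime M) (algebraMap A _ a)))
    (G : Amb.Fact γ (algebraMap (Localization.AtPrime q) (Localization.AtPrime M) (algebraMap A _ b))) :
    ∃ π ∈ nonZeroDivisors (Localization.AtPrime (M.comap ψ)),
      ∃ (_ : Amb.Fact π (at' (M.comap ψ) (algebraMap A C a))) (_ : Amb.Fact π (at' (M.comap ψ) (algebraMap A C b))),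
        τ A (M.comap ψ) (algebraMap A C a) (algebraMap A C b) =
          CycAlg.ordFrac (A ⧸ q) q.ResidueField (Amb.nrm (Localization.AtPrime q) M (F.val G)) := by
  have := Localization.isLocalHom_localRingHom (M.comap ψ) M ψ rfl
  obtain ⟨π, hπ, F₀, G₀, h⟩ := exists_pull (Localization.localRingHom (M.comap ψ) M ψ rfl)
    (locHom_bijective q ψ hψ hs hk M) hγ (algebraMap_atPrime_eq q ψ hψ hk M a) (algebraMap_atPrime_eq q ψ hψ hk M b) F G
  refine ⟨π, hπ, F₀, G₀, ?_⟩
  have := krullDimLE_one_atPrime (C := C) hA hgood.2.1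
  have : IsNoetherianRing C := Algebra.FiniteType.isNoetherianRing A C
  rw [τ, Amb.tameSymbol_eq_fact hπ F₀ G₀, ← nrm_transfer q ψ hψ hs hk M, h]

/-- The key lemma. -/
theorem key_lemma (hA : ringKrullDim A = 2) (a b : A) (ha : a ∈ nonZeroDivisors A) (hb : b ∈ nonZeroDivisors A) :
    ∑ᶠ (q : PrimeSpectrum A) (_ : q.asIdeal.height = 1), term a b q = 0 := by
  classical
  by_cases hu : IsUnit (a * b)
  · refine finsum_eq_zero_of_forall_eq_zero fun q => ?_
    rw [finsum_eq_if]
    split_ifs with h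
    swap
    · rfl
    exact term_eq_zero hA a b q h fun h' => q.2.ne_top (Ideal.eq_top_of_isUnit_mem _ h' hu)
  set t := a * b with ht_def
  have ht : t ∈ maximalIdeal A := hu
  have htnz : t ∈ nonZeroDivisors A := mul_mem ha hb
  set S := (zeros_finite (C := A) hA htnz).toFinset
  have hS : ∀ q, q ∈ S ↔ Good q.asIdeal ∧ t ∈ q.asIdeal := fun q => (zeros_finite (C := A) hA htnz).mem_toFinset
  have hsum : ∑ᶠ (q : PrimeSpectrum A) (_ : q.asIdeal.height = 1), term a b q = ∑ q ∈ S, term a b q := by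
    refine finsum_cond_eq_sum_of_cond_iff _ fun {q} hq => ?_
    by_cases htq : t ∈ q.asIdeal
    · rw [hS, height_eq_one_iff hA htnz q htq]; exact ⟨fun h => ⟨h, htq⟩, fun h => h.1⟩
    · exact ⟨fun h => absurd (term_eq_zero hA a b q h htq) hq, fun h => absurd ((hS q).1 h).2 htq⟩
  rw [hsum]
  let qq : Fin S.card → PrimeSpectrum A := fun i => (S.equivFin.symm i).1
  have hqq : ∀ i, Good (qq i).asIdeal ∧ t ∈ (qq i).asIdeal := fun i => (hS _).1 (S.equivFin.symm i).2
  have data : ∀ i, ∃ (Q : Type u) (_ : CommRing Q) (_ : Algebra (Localization.AtPrime (qq i).asIdeal) Q)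
      (c : Localization.AtPrime (qq i).asIdeal) (_ : Amb.IsAmb Q c) (T : Subalgebra (Localization.AtPrime (qq i).asIdeal) Q),
      T.toSubmodule.FG ∧ ∀ (M : Ideal T) [M.IsMaximal],
        ∃ γ ∈ nonZeroDivisors (Localization.AtPrime M),
          Nonempty (Amb.Fact γ (algebraMap (Localization.AtPrime (qq i).asIdeal) (Localization.AtPrime M)
            (algebraMap A (Localization.AtPrime (qq i).asIdeal) a))) ∧
          Nonempty (Amb.Fact γ (algebraMap (Localization.AtPrime (qq i).asIdeal) (Localization.AtPrime M)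
            (algebraMap A (Localization.AtPrime (qq i).asIdeal) b))) := by
    intro i
    have := krullDimLE_one_atPrime (C := A) hA (hqq i).1.2.1
    have : IsNoetherianRing (Localization.AtPrime (qq i).asIdeal) :=
      IsLocalization.isNoetherianRing (qq i).asIdeal.primeCompl _ inferInstance
    set f := algebraMap A (Localization.AtPrime (qq i).asIdeal)
    have hfnz : ∀ {x : A}, x ∈ nonZeroDivisors A → f x ∈ nonZeroDivisors _ := fun hx =>
      IsLocalization.map_nonZeroDivisors_le (qq i).asIdeal.primeCompl _ ⟨_, hx, rfl⟩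
    have htm : f t ∈ maximalIdeal _ := (IsLocalization.AtPrime.to_map_mem_maximal_iff _ (qq i).asIdeal t).2 (hqq i).2
    have hQ := Amb.isAmb_away (hfnz htnz) htm
    obtain ⟨T, hT, h⟩ := Amb.exists_common hQ {f a, f b} (by simp [hfnz ha, hfnz hb])
    exact ⟨_, _, _, _, hQ, T, hT, fun M _ => by
      obtain ⟨γ, hγ, hF⟩ := h M
      exact ⟨γ, hγ, hF _ (by simp), hF _ (by simp)⟩⟩
  choose Q iQ iA c hQ T hT hγ using data
  have hfinT : ∀ i, Module.Finite (Localization.AtPrime (qq i).asIdeal) (T i) := fun i => Module.Finite.iff_fg.2 (hT i)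
  have hnoeth : ∀ i, IsNoetherianRing (Localization.AtPrime (qq i).asIdeal) := fun i =>
    IsLocalization.isNoetherianRing (qq i).asIdeal.primeCompl _ inferInstance
  have hdim : ∀ i, Ring.KrullDimLE 1 (Localization.AtPrime (qq i).asIdeal) := fun i =>
    krullDimLE_one_atPrime (C := A) hA (hqq i).1.2.1
  have hfnz : ∀ i {x : A}, x ∈ nonZeroDivisors A →
      algebraMap A (Localization.AtPrime (qq i).asIdeal) x ∈ nonZeroDivisors _ := fun i _ hx =>
    IsLocalization.map_nonZeroDivisors_le (qq i).asIdeal.primeCompl _ ⟨_, hx, rfl⟩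
  obtain ⟨C, iC, iAC, hC, hreg, hglue⟩ := Amb.exists_glue_maps hA ht htnz S.card (fun i => (qq i).asIdeal)
    (fun i j h => S.equivFin.symm.injective (Subtype.ext (PrimeSpectrum.ext h)))
    (fun i e => (hqq i).1.2.1 (e.symm ▸ maximalIdeal.isMaximal A)) (fun i => (hqq i).2) (fun i => T i)
    (fun i => by
      obtain ⟨h1, h2, n, hn⟩ := (hQ i).isFinExt (hT i)
      refine ⟨h1, h2, n, fun r hr => hn r (Ideal.pow_right_mono ?_ n hr)⟩
      rw [Ideal.span_singleton_le_iff_mem]
      exact (IsLocalization.AtPrime.to_map_mem_maximal_iff _ (qq i).asIdeal t).2 (hqq i).2)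
    (fun i x y hxy => Subtype.ext (((hQ i).isUnit_of_nzd (hfnz i htnz)).mul_left_cancel (by
      simpa [Algebra.smul_def] using congrArg Subtype.val hxy)))
  choose ψ hψ hsur hker using hglue
  have : Module.Finite A C := hC.2.1
  have htC : algebraMap A C t ∈ nonZeroDivisors C := mem_nonZeroDivisors_iff_right.2 fun z hz => hreg (by
    simpa [Algebra.smul_def, mul_comm] using hz)
  have hab' : algebraMap A C a * algebraMap A C b = algebraMap A C t := (map_mul _ a b).symm
  obtain ⟨haC, hbC⟩ := mul_mem_nonZeroDivisors.1 (hab' ▸ htC)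
  choose γ hγn hFa hFb using fun i (M : MaximalSpectrum (T i)) => hγ i M.asIdeal
  let PP : ∀ i, MaximalSpectrum (T i) → PrimeSpectrum C := fun i M => ⟨M.asIdeal.comap (ψ i), inferInstance⟩
  have hunder : ∀ i (M : MaximalSpectrum (T i)), (PP i M).asIdeal.under A = (qq i).asIdeal := fun i M =>
    under_comap (qq i).asIdeal (ψ i) (hψ i) M.asIdeal
  have hgood : ∀ i (M : MaximalSpectrum (T i)), Good (PP i M).asIdeal := fun i M => by
    refine good_of_nzd (fun hmax => (hqq i).1.2.1 ?_) htC (?_ : algebraMap A C t ∈ (PP i M).asIdeal)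
    · rw [← hunder i M]
      exact Ideal.isMaximal_comap_of_isIntegral_of_isMaximal _
    · exact (show t ∈ (PP i M).asIdeal.under A from (hunder i M).symm ▸ (hqq i).2)
  -- the local description at each prime of `C` over `V(t)`
  have local_data : ∀ i (M : MaximalSpectrum (T i)), ∃ π ∈ nonZeroDivisors (Localization.AtPrime (PP i M).asIdeal),
      ∃ (F : Amb.Fact π (at' (PP i M).asIdeal (algebraMap A C a))) (G : Amb.Fact π (at' (PP i M).asIdeal (algebraMap A C b))),
        τ A (PP i M).asIdeal (algebraMap A C a) (algebraMap A C b) =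
          CycAlg.ordFrac (A ⧸ (qq i).asIdeal) (qq i).asIdeal.ResidueField
            (Amb.nrm (Localization.AtPrime (qq i).asIdeal) M.asIdeal ((hFa i M).some.val (hFb i M).some)) := by
    intro i M
    have := hfinT i
    exact local_term hA (qq i).asIdeal (ψ i) (hψ i) (hsur i) (hker i) M.asIdeal (hgood i M) a b (hγn i M)
      (hFa i M).some (hFb i M).some
  -- each term of `A` is a sum of terms of `C`
  have hterm : ∀ i [Fintype (MaximalSpectrum (T i))], term a b (qq i) =
      ∑ M : MaximalSpectrum (T i), τ A (PP i M).asIdeal (algebraMap A C a) (algebraMap A C b) := by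
    intro i _
    have := hfinT i; have := hnoeth i; have := hdim i
    have := krullDimLE_one_quot hA (hqq i).1.2.2
    rw [term, Amb.tameSymbol_eq_val (hQ i) (hfnz i ha) (hfnz i hb) (T i).val Subtype.val_injective
      ⟨γ i, hγn i, fun M => (hFa i M).some, fun M => (hFb i M).some⟩, Amb.Dat.val,
      ordFrac_prod _ _ fun M _ => Amb.nrm_ne_zero M.asIdeal (Amb.Fact.val_ne_zero _ _)]
    refine Finset.sum_congr rfl fun M _ => ?_
    obtain ⟨π, hπ, F, G, h⟩ := local_data i M
    exact h.symm
  have : ∀ i, Finite (MaximalSpectrum (T i)) := fun i => by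
    have := hfinT i; have := hnoeth i
    exact Amb.finite_maximalSpectrum (R := Localization.AtPrime (qq i).asIdeal) (S := T i)
  have := fun i => Fintype.ofFinite (MaximalSpectrum (T i))
  let idx : (Σ i : Fin S.card, MaximalSpectrum (T i)) → GP C := fun p => ⟨PP p.1 p.2, hgood p.1 p.2⟩
  have hinjidx : Function.Injective idx := by
    rintro ⟨i, M⟩ ⟨j, N⟩ h
    have h' : (PP i M).asIdeal = (PP j N).asIdeal := congrArg (fun P : GP C => P.1.asIdeal) h
    have hij : i = j := S.equivFin.symm.injective (Subtype.ext (PrimeSpectrum.ext (by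
      have h2 : (PP i M).asIdeal.under A = (PP j N).asIdeal.under A := by rw [h']
      rw [hunder i M, hunder j N] at h2
      exact h2)))
    subst hij
    have := hfinT i
    exact congrArg (Sigma.mk i) (MaximalSpectrum.ext (comap_injective (qq i).asIdeal (ψ i) (hψ i) (hsur i) M.asIdeal N.asIdeal h'))
  have hsurj : ∀ P : GP C, algebraMap A C t ∈ P.1.asIdeal → ∃ p, idx p = P := by
    intro P htP
    have hgA : Good (P.1.asIdeal.under A) := ⟨inferInstance, fun hmax => under_ne_maximal P.2 (eq_maximalIdeal hmax),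
      under_notMem_minimalPrimes P.2⟩
    obtain ⟨i, hi⟩ : ∃ i, qq i = ⟨P.1.asIdeal.under A, inferInstance⟩ :=
      ⟨S.equivFin ⟨⟨P.1.asIdeal.under A, inferInstance⟩, (hS ⟨P.1.asIdeal.under A, inferInstance⟩).2 ⟨hgA, htP⟩⟩, by simp only [qq, Equiv.symm_apply_apply]⟩
    have := hfinT i
    obtain ⟨M, hM, hMP⟩ := comap_surjective (qq i).asIdeal (ψ i) (hψ i) (hsur i) (hker i) P.1.asIdeal
      (congrArg PrimeSpectrum.asIdeal hi).symm
    exact ⟨⟨i, ⟨M, hM⟩⟩, Subtype.ext (PrimeSpectrum.ext hMP)⟩
  -- the parameters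
  let π : ∀ P : PrimeSpectrum C, Localization.AtPrime P.asIdeal := fun P =>
    if h : ∃ π ∈ nonZeroDivisors (Localization.AtPrime P.asIdeal),
        (∃ e : ℕ, Associated (π ^ e) (at' P.asIdeal (algebraMap A C a))) ∧
          ∃ e : ℕ, Associated (π ^ e) (at' P.asIdeal (algebraMap A C b)) then h.choose else 1
  have hT0 := T_eq_zero hA ht htC haC hbC π (fun P hP => by
    obtain ⟨⟨i, M⟩, rfl⟩ := hsurj P (hab' ▸ hP)
    obtain ⟨π₀, hπ₀, F, G, -⟩ := local_data i M
    have hex : ∃ π ∈ nonZeroDivisors (Localization.AtPrime (PP i M).asIdeal),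
        (∃ e : ℕ, Associated (π ^ e) (at' (PP i M).asIdeal (algebraMap A C a))) ∧
          ∃ e : ℕ, Associated (π ^ e) (at' (PP i M).asIdeal (algebraMap A C b)) :=
      ⟨π₀, hπ₀, ⟨F.e, F.u, by rw [mul_comm]; exact F.fac.symm⟩, ⟨G.e, G.u, by rw [mul_comm]; exact G.fac.symm⟩⟩
    simp only [π, idx, dif_pos hex]
    exact ⟨hex.choose_spec.1, hex.choose_spec.2⟩)
  rw [← hT0, Key.T, finsum_eq_sum_of_support_subset (s := Finset.univ.image idx) _ ?_,
    Finset.sum_image fun p _ q _ h => hinjidx h, Fintype.sum_sigma]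
  · rw [← Finset.sum_coe_sort, ← Equiv.sum_comp S.equivFin.symm]
    exact Finset.sum_congr rfl fun i _ => hterm i
  · intro P hP
    simp only [Finset.coe_image, Finset.coe_univ, Set.image_univ]
    refine hsurj P ?_
    by_contra h
    rw [← hab'] at h
    exact hP (τ_units hA P.2 (fun h' => h (Ideal.mul_mem_right _ _ h')) fun h' => h (Ideal.mul_mem_left _ _ h'))

end Groth.MilnorKLambda.Key
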