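import Groth.Agent.MilnorKLambda.Mult

/-!
# Multiplicities in a semilocal finite algebra
-/

set_option autoImplicit false
universe u

open CycAlg LinearMap Submodule Pointwise

namespace Groth.MilnorKLambda.Key

open Groth.MilnorKLambda.Per

variable {A : Type u} [CommRing A] [IsLocalRing A] [IsNoetherianRing A]
  {C : Type u} [CommRing C] [Algebra A C] [Module.Finite A C]

/-- multiplication by `y`, linear over the base -/
noncomputable def mulY (A : Type u) [CommRing A] {C : Type u} [CommRing C] [Algebra A C] (y : C) (N : Type u)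
    [AddCommGroup N] [Module C N] [Module A N] [IsScalarTower A C N] : N →ₗ[A] N :=
  (y • (LinearMap.id : N →ₗ[C] N)).restrictScalars A

omit [IsLocalRing A] [IsNoetherianRing A] [Module.Finite A C] in
@[simp] theorem mulY_apply (y : C) (N : Type u) [AddCommGroup N] [Module C N] [Module A N] [IsScalarTower A C N] (z : N) :
    mulY A y N z = y • z := rfl

omit [IsNoetherianRing A] in
theorem exists_pow_kills (y : C) (N : Type u) [AddCommGroup N] [Module C N] [Module.Finite C N]
    (h : ∀ p : PrimeSpectrum C, p ∈ Module.support C N → y ∈ p.asIdeal → p.asIdeal.IsMaximal)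
    (hnoeth : IsNoetherianRing A) :
    ∃ k, ∀ a ∈ IsLocalRing.maximalIdeal A ^ k, algebraMap A C a ∈ Module.annihilator C N ⊔ Ideal.span {y} := by
  have hrad : (IsLocalRing.maximalIdeal A).map (algebraMap A C) ≤ (Module.annihilator C N ⊔ Ideal.span {y}).radical := by
    rw [Ideal.radical_eq_sInf]
    refine le_sInf fun p hp => ?_
    have hmax := h ⟨p, hp.2⟩ (by rw [Module.support_eq_zeroLocus]; exact le_sup_left.trans hp.1)
      (hp.1 (Submodule.mem_sup_right (Ideal.mem_span_singleton_self y)))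
    rw [Ideal.map_le_iff_le_comap]
    exact (IsLocalRing.eq_maximalIdeal (Ideal.isMaximal_comap_of_isIntegral_of_isMaximal (R := A) p)).ge
  obtain ⟨k, hk⟩ := Ideal.exists_pow_le_of_le_radical_of_fg hrad (Ideal.FG.map (IsNoetherian.noetherian _) _)
  exact ⟨k, fun a ha => hk (by rw [← Ideal.map_pow]; exact Ideal.mem_map_of_mem _ ha)⟩

theorem length_ne_top_of_pow {k : ℕ} (X : Type u) [AddCommGroup X] [Module A X] [Module.Finite A X]
    (h : ∀ a ∈ IsLocalRing.maximalIdeal A ^ k, ∀ z : X, a • z = 0) : Module.length A X ≠ ⊤ :=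
  length_ne_top_of_support fun p hp => by
    rw [Module.support_eq_zeroLocus] at hp
    have hle : IsLocalRing.maximalIdeal A ^ k ≤ p.asIdeal := fun a ha => hp (Module.mem_annihilator.2 (h a ha))
    exact ((IsLocalRing.maximalIdeal.isMaximal A).eq_of_le p.2.ne_top (p.2.le_of_pow_le hle)).symm

theorem finCoh_mulY (y : C) (N : Type u) [AddCommGroup N] [Module C N] [Module.Finite C N] [Module A N]
    [IsScalarTower A C N]
    (h : ∀ p : PrimeSpectrum C, p ∈ Module.support C N → y ∈ p.asIdeal → p.asIdeal.IsMaximal) :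
    FinCoh A (0 : N →ₗ[A] N) (mulY A y N) := by
  have : Module.Finite A N := Module.Finite.trans C N
  obtain ⟨k, hk⟩ := exists_pow_kills y N h ‹_›
  have key : ∀ a ∈ IsLocalRing.maximalIdeal A ^ k, ∀ z : N, ∃ c : C, a • z = c • y • z := by
    intro a ha z
    obtain ⟨j, hj, w, hw, e⟩ := Submodule.mem_sup.1 (hk a ha)
    obtain ⟨c, rfl⟩ := Ideal.mem_span_singleton'.1 hw
    exact ⟨c, by rw [← algebraMap_smul C a z, ← e, add_smul, Module.mem_annihilator.1 hj z, zero_add, mul_smul]⟩
  constructor
  · refine (length_ne_top_of_pow (k := k) _ fun a ha z => ?_).lt_top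
    obtain ⟨z, rfl⟩ := Submodule.Quotient.mk_surjective _ z
    rw [← Submodule.Quotient.mk_smul, Submodule.Quotient.mk_eq_zero]
    obtain ⟨c, hc⟩ := key a ha (z : N)
    refine ⟨c • (z : N), ?_⟩
    change y • c • (z : N) = a • (z : N)
    rw [hc, smul_comm]
  · refine (length_ne_top_of_pow (k := k) _ fun a ha z => ?_).lt_top
    obtain ⟨z, rfl⟩ := Submodule.Quotient.mk_surjective _ z
    rw [← Submodule.Quotient.mk_smul, Submodule.Quotient.mk_eq_zero]
    obtain ⟨c, hc⟩ := key a ha (z : N)
    refine ⟨0, ?_⟩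
    change (0 : N) = a • (z : N)
    rw [hc, show y • (z : N) = 0 from LinearMap.mem_ker.1 z.2, smul_zero]

open scoped Classical in
/-- The multiplicity formula. -/
theorem herbrand_eq_sum (y : C) (M : Type u) [AddCommGroup M] [Module C M] [Module.Finite C M] [Module A M]
    [IsScalarTower A C M] (s : Finset (PrimeSpectrum C))
    (hs : ∀ p : PrimeSpectrum C, p ∈ s ↔ p ∈ Module.support C M ∧ ¬ p.asIdeal.IsMaximal)
    (hmin : ∀ p ∈ s, Minimal (fun q => q ∈ Module.support C M) p)
    (hy : ∀ p ∈ s, y ∉ p.asIdeal) :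
    herbrand A (0 : M →ₗ[A] M) (mulY A y M) = ∑ p ∈ s,
      ((Module.length A (C ⧸ (p.asIdeal ⊔ Ideal.span {y}))).toNat : ℤ) * (lq p.asIdeal M).toNat := by
  have : IsNoetherianRing C := Algebra.FiniteType.isNoetherianRing A C
  let w : PrimeSpectrum C → ℤ := fun p => ((Module.length A (C ⧸ (p.asIdeal ⊔ Ideal.span {y}))).toNat : ℤ)
  have hmax : ∀ (N : Type u) [AddCommGroup N] [Module C N], Module.support C N ⊆ Module.support C M →
      ∀ p : PrimeSpectrum C, p ∈ Module.support C N → y ∈ p.asIdeal → p.asIdeal.IsMaximal := by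
    intro N _ _ hN p hp hyp
    by_contra hc
    exact hy p ((hs p).2 ⟨hN hp, hc⟩) hyp
  have hlq : ∀ (N : Type u) [AddCommGroup N] [Module C N] [Module.Finite C N],
      Module.support C N ⊆ Module.support C M → ∀ p ∈ s, lq p.asIdeal N ≠ ⊤ := by
    intro N _ _ _ hN p hp
    by_cases hpN : p ∈ Module.support C N
    · exact lq_ne_top p.asIdeal ⟨hpN, fun q hq hqp => (hmin p hp).2 (hN hq) hqp⟩
    · rw [lq_eq_zero_of_notMem p.asIdeal hpN]; exact ENat.zero_ne_top
  suffices gen : ∀ (N : Type u) [AddCommGroup N] [Module C N] [Module.Finite C N],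
      Module.support C N ⊆ Module.support C M → ∀ [Module A N] [IsScalarTower A C N],
        herbrand A (0 : N →ₗ[A] N) (mulY A y N) = ∑ p ∈ s, w p * (lq p.asIdeal N).toNat from
    gen M subset_rfl
  intro N _ _ hN
  induction hN using IsNoetherianRing.induction_on_isQuotientEquivQuotientPrime with
  | subsingleton N =>
    intro _ _ _
    have hz : Module.length A N = 0 := Module.length_eq_zero
    obtain ⟨-, e⟩ := finCoh_of_finite (φ := (0 : N →ₗ[A] N)) (ψ := mulY A y N) ⟨by simp, by simp⟩
      (by rw [hz]; exact ENat.zero_ne_top.lt_top) (by rw [hz]; exact ENat.zero_ne_top.lt_top)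
    rw [e, sub_self]
    refine (Finset.sum_eq_zero fun p _ => ?_).symm
    rw [lq_eq_zero_of_notMem p.asIdeal (by simp [Module.support_eq_empty])]; simp
  | quotient N p e =>
    intro hN _ _
    have hsupp : Module.support C N = Module.support C (C ⧸ p.asIdeal) := e.support_eq
    have hmem : ∀ q : PrimeSpectrum C, q ∈ Module.support C (C ⧸ p.asIdeal) ↔ p.asIdeal ≤ q.asIdeal := fun q => by
      rw [Module.support_eq_zeroLocus, Ideal.annihilator_quotient]; rfl
    have hpM : p ∈ Module.support C M := hN (hsupp ▸ (hmem p).2 le_rfl)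
    have hS : ∀ q ∈ s, q ≠ p → lq q.asIdeal N = 0 := fun q hq hne => by
      by_contra hc
      have := mem_support_of_lq_ne_zero q.asIdeal hc
      rw [hsupp, hmem] at this
      exact hne (le_antisymm ((hmin q hq).2 hpM this) this)
    by_cases hpm : p.asIdeal.IsMaximal
    · have hfinA : Module.Finite A N := Module.Finite.trans C N
      have hkill : ∀ a ∈ IsLocalRing.maximalIdeal A ^ 1, ∀ z : N, a • z = 0 := by
        intro a ha z
        rw [pow_one] at ha
        refine e.injective ?_
        rw [map_zero, ← algebraMap_smul C a z, map_smul]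
        obtain ⟨c, hc⟩ := Ideal.Quotient.mk_surjective (e z)
        rw [← hc, Algebra.smul_def, Ideal.Quotient.algebraMap_eq, ← map_mul]
        exact Ideal.Quotient.eq_zero_iff_mem.2 (Ideal.mul_mem_right _ _
          ((Ideal.mem_comap (f := algebraMap A C)).1
            (((IsLocalRing.eq_maximalIdeal (Ideal.isMaximal_comap_of_isIntegral_of_isMaximal (R := A) p.asIdeal))).symm ▸ ha)))
      have hfinN := (length_ne_top_of_pow (A := A) (k := 1) N hkill).lt_top
      obtain ⟨-, e'⟩ := finCoh_of_finite (φ := (0 : N →ₗ[A] N)) (ψ := mulY A y N) ⟨by simp, by simp⟩ hfinN hfinN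
      rw [e', sub_self]
      refine (Finset.sum_eq_zero fun q hq => ?_).symm
      rw [hS q hq fun h => ((hs q).1 hq).2 (h ▸ hpm)]; simp
    · have hps : p ∈ s := (hs p).2 ⟨hpM, hpm⟩
      have hyp := hy p hps
      obtain ⟨-, he⟩ := herbrand_eq_of_finite_ker_coker (φ := (0 : N →ₗ[A] N)) (ψ := mulY A y N)
        (φ' := (0 : (C ⧸ p.asIdeal) →ₗ[A] (C ⧸ p.asIdeal))) (ψ' := mulY A y (C ⧸ p.asIdeal)) ⟨by simp, by simp⟩
        ⟨by simp, by simp⟩ (e.restrictScalars A).toLinearMap (by simp) (LinearMap.ext fun z => (map_smul e y z).symm)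
        (by rw [LinearMap.ker_eq_bot.2 (e.restrictScalars A).injective]; simp)
        (by rw [LinearMap.range_eq_top.2 (e.restrictScalars A).surjective, Module.length_eq_zero]; exact ENat.zero_ne_top.lt_top)
        (finCoh_mulY y N (hmax N hN))
      have ht0 : Module.length A (perH (mulY A y (C ⧸ p.asIdeal)) 0) = 0 := by
        rw [perH_length]
        refine rl_eq_zero fun z hz => ?_
        obtain ⟨r, rfl⟩ := Ideal.Quotient.mk_surjective z
        have hzz : (Ideal.Quotient.mk p.asIdeal (y * r)) = 0 := LinearMap.mem_ker.1 hz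
        rw [Ideal.Quotient.eq_zero_iff_mem.2 ((p.2.mem_or_mem (Ideal.Quotient.eq_zero_iff_mem.1 hzz)).resolve_left hyp)]
        exact zero_mem _
      have hc0 : Module.length A (perH (0 : (C ⧸ p.asIdeal) →ₗ[A] _) (mulY A y (C ⧸ p.asIdeal))) =
          Module.length A (C ⧸ (p.asIdeal ⊔ Ideal.span {y})) := by
        rw [perH_length, LinearMap.ker_zero, rl_top]
        have hmap : LinearMap.range (mulY A y (C ⧸ p.asIdeal)) =
            (((p.asIdeal ⊔ Ideal.span {y}).map (Ideal.Quotient.mk p.asIdeal)) : Ideal (C ⧸ p.asIdeal)).restrictScalars A := by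
          ext z
          rw [Submodule.restrictScalars_mem, Ideal.map_sup, Ideal.map_quotient_self, bot_sup_eq, Ideal.map_span,
            Set.image_singleton, Ideal.mem_span_singleton']
          constructor
          · rintro ⟨v, rfl⟩; exact ⟨v, by rw [mul_comm]; rfl⟩
          · rintro ⟨v, rfl⟩; exact ⟨v, by rw [mul_comm]; rfl⟩
        rw [hmap]
        exact ((Submodule.Quotient.restrictScalarsEquiv A _).trans
          ((DoubleQuot.quotQuotEquivQuotOfLEₐ A (le_sup_left : p.asIdeal ≤ p.asIdeal ⊔ Ideal.span {y})).toLinearEquiv)).length_eq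
      rw [he, herbrand, ht0, hc0, ENat.toNat_zero, Nat.cast_zero, sub_zero, Finset.sum_eq_single p]
      · rw [lq_congr p.asIdeal e, lq_quot_self]; simp [w]
      · intro q hq hne; rw [hS q hq hne]; simp
      · intro h; exact absurd hps h
  | exact N₁ N₂ N₃ f g hf hg hfg ih1 ih3 =>
    intro hN _ _
    have hN1 := (Module.support_subset_of_injective f hf).trans hN
    have hN3 := (Module.support_subset_of_surjective g hg).trans hN
    let : Module A N₁ := Module.compHom N₁ (algebraMap A C)
    have : IsScalarTower A C N₁ := ⟨fun a c z => by rw [Algebra.smul_def, mul_smul]; rfl⟩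
    let : Module A N₃ := Module.compHom N₃ (algebraMap A C)
    have : IsScalarTower A C N₃ := ⟨fun a c z => by rw [Algebra.smul_def, mul_smul]; rfl⟩
    obtain ⟨-, -, -, he⟩ := ses_additive (φ₁ := (0 : N₁ →ₗ[A] N₁)) (ψ₁ := mulY A y N₁)
      (φ₂ := (0 : N₂ →ₗ[A] N₂)) (ψ₂ := mulY A y N₂) (φ₃ := (0 : N₃ →ₗ[A] N₃)) (ψ₃ := mulY A y N₃)
      ⟨by simp, by simp⟩ ⟨by simp, by simp⟩ (f₁ := f.restrictScalars A) (g₁ := f.restrictScalars A)
      (f₂ := g.restrictScalars A) (g₂ := g.restrictScalars A) (by simp)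
      (LinearMap.ext fun z => (map_smul f y z).symm) (by simp) (LinearMap.ext fun z => (map_smul g y z).symm)
      hf hf hg hg (SetLike.ext fun z => (hfg z).symm) (SetLike.ext fun z => (hfg z).symm)
      (Or.inr (Or.inl ⟨finCoh_mulY y N₁ (hmax N₁ hN1), finCoh_mulY y N₃ (hmax N₃ hN3)⟩))
    rw [he, ih1 hN1, ih3 hN3, ← Finset.sum_add_distrib]
    refine Finset.sum_congr rfl fun p hp => ?_
    rw [lq_add p.asIdeal hf hg hfg, toNat_add_int (hlq N₁ hN1 p hp) (hlq N₃ hN3 p hp)]
    ring

end Groth.MilnorKLambda.Key
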