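import Groth.Agent.MilnorKLambda.Key.Primes
import Groth.Agent.MilnorKLambda.Key.Lengths
import Groth.Agent.RefRank.Ord
import Groth.Agent.S14503
import Mathlib.RingTheory.QuasiFinite.Basic
import Mathlib.RingTheory.LocalRing.ResidueField.Instances

/-!
# Orders of norms at primes of a finite algebra
-/

set_option autoImplicit false
universe u

open IsLocalRing

namespace Groth.MilnorKLambda.Key

variable {A : Type u} [CommRing A] [IsLocalRing A] [IsNoetherianRing A]
  {C : Type u} [CommRing C] [Algebra A C] [Module.Finite A C]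

/-- The norm down to the residue field of the prime below. -/
noncomputable def nrmP (A : Type u) [CommRing A] {C : Type u} [CommRing C] [Algebra A C] (P : Ideal C) [P.IsPrime] :
    P.ResidueField →* (P.under A).ResidueField :=
  letI := Localization.AtPrime.algebraOfLiesOver (P.under A) P
  Algebra.norm (P.under A).ResidueField

/-- The order of the norm. -/
noncomputable def oP (A : Type u) [CommRing A] {C : Type u} [CommRing C] [Algebra A C] (P : Ideal C) [P.IsPrime]
    (z : P.ResidueField) : ℤ :=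
  CycAlg.ordFrac (A ⧸ P.under A) (P.under A).ResidueField (nrmP A P z)

omit [IsNoetherianRing A] in
theorem under_ne_maximal {P : Ideal C} (hP : Good P) : P.under A ≠ maximalIdeal A := fun h => by
  have := hP.1
  exact hP.2.1 (Ideal.isMaximal_of_isIntegral_of_isMaximal_comap P
    (show (P.under A).IsMaximal from h ▸ maximalIdeal.isMaximal A))

omit [IsNoetherianRing A] in
theorem krullDimLE_one_quot (hA : ringKrullDim A = 2) {q : Ideal A} [q.IsPrime] (hq : q ∉ minimalPrimes A) :
    Ring.KrullDimLE 1 (A ⧸ q) := by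
  refine Ring.KrullDimLE.mk₁ fun I hI => ?_
  by_cases hb : I = ⊥
  · exact Or.inl (hb ▸ ⟨⟨(Ideal.isPrime_bot), le_rfl⟩, fun _ _ _ => bot_le⟩)
  right
  set f := Ideal.Quotient.mk q
  obtain ⟨P0, hP0, hle⟩ := Ideal.exists_minimalPrimes_le (bot_le : ⊥ ≤ q)
  have := hP0.1.1
  have hqI : q < I.comap f := by
    refine lt_of_le_of_ne (fun x hx => by simp [Ideal.mem_comap, f, Ideal.Quotient.eq_zero_iff_mem.2 hx]) fun e => hb ?_
    rw [← Ideal.map_comap_of_surjective f Ideal.Quotient.mk_surjective I, ← e, Ideal.map_quotient_self]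
  have := no_chain (A := A) (C := A) hA (lt_of_le_of_ne hle fun e => hq (e ▸ hP0)) hqI
  exact (Ideal.map_eq_top_or_isMaximal_of_surjective f Ideal.Quotient.mk_surjective this).elim
    (fun h => absurd (by rwa [Ideal.map_comap_of_surjective f Ideal.Quotient.mk_surjective] at h) hI.ne_top)
    (fun h => by rwa [Ideal.map_comap_of_surjective f Ideal.Quotient.mk_surjective] at h)

omit [IsNoetherianRing A] in
theorem dim_quot_eq_one (hA : ringKrullDim A = 2) {q : Ideal A} [q.IsPrime] (hq : q ∉ minimalPrimes A)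
    (hqm : q ≠ maximalIdeal A) : ringKrullDim (A ⧸ q) = 1 := by
  have h1 := krullDimLE_one_quot hA hq
  refine le_antisymm ((Ring.krullDimLE_iff).1 h1) ?_
  by_contra hc
  have h0 : Ring.KrullDimLE 0 (A ⧸ q) := by
    refine (Ring.krullDimLE_iff).2 ?_
    have h := ENat.WithBot.lt_add_one_iff (n := ringKrullDim (A ⧸ q)) (m := 0)
    rw [Nat.cast_zero, zero_add] at h
    exact h.1 (not_le.1 hc)
  have : (⊥ : Ideal (A ⧸ q)).IsMaximal := Ideal.IsPrime.isMaximal' (Ideal.isPrime_bot)
  have hmax := Ideal.comap_isMaximal_of_surjective (Ideal.Quotient.mk q) Ideal.Quotient.mk_surjective (K := (⊥ : Ideal (A ⧸ q)))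
  rw [← RingHom.ker_eq_comap_bot, Ideal.mk_ker] at hmax
  exact hqm (eq_maximalIdeal hmax)

omit [IsLocalRing A] [IsNoetherianRing A] in
theorem under_notMem_minimalPrimes {P : Ideal C} (hP : Good P) : P.under A ∉ minimalPrimes A := fun h => by
  have := hP.1
  obtain ⟨P0, hP0, hle⟩ := Ideal.exists_minimalPrimes_le (bot_le : ⊥ ≤ P)
  have := hP0.1.1
  have hlt := Ideal.IsIntegral.comap_lt_comap (R := A) (lt_of_le_of_ne hle fun e => hP.2.2 (e ▸ hP0))
  exact absurd (h.2 ⟨inferInstance, bot_le⟩ hlt.le) (not_le_of_gt hlt)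

/-- The order of the norm of the image of `y ∉ P` is the length of `C/(P + y)`. -/
theorem oP_algebraMap (hA : ringKrullDim A = 2) {P : Ideal C} [P.IsPrime] (hP : Good P) {y : C} (hy : y ∉ P) :
    oP A P (algebraMap C P.ResidueField y) = ((Module.length A (C ⧸ (P ⊔ Ideal.span {y}))).toNat : ℤ) := by
  set q := P.under A
  let := Localization.AtPrime.algebraOfLiesOver q P
  have : Algebra.QuasiFinite A C := inferInstance
  have : Module.Finite q.ResidueField P.ResidueField := inferInstance
  let : Algebra (A ⧸ q) P.ResidueField := ((algebraMap (C ⧸ P) P.ResidueField).comp (algebraMap (A ⧸ q) (C ⧸ P))).toAlgebra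
  have : IsScalarTower (A ⧸ q) (C ⧸ P) P.ResidueField := .of_algebraMap_eq' rfl
  have : IsScalarTower (A ⧸ q) q.ResidueField P.ResidueField := by
    refine .of_algebraMap_eq fun x => ?_
    obtain ⟨x, rfl⟩ := Ideal.Quotient.mk_surjective x
    simp [RingHom.algebraMap_toAlgebra, ← IsScalarTower.algebraMap_apply]
  have : Module.Finite (A ⧸ q) (C ⧸ P) := Module.Finite.of_restrictScalars_finite A _ _
  have : IsLocalRing (A ⧸ q) := IsLocalRing.of_surjective' (Ideal.Quotient.mk q) Ideal.Quotient.mk_surjective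
  obtain ⟨-, h⟩ := Groth.Agent.S14503.result (A ⧸ q) (dim_quot_eq_one hA (under_notMem_minimalPrimes hP)
    (under_ne_maximal hP)) (C ⧸ P) Ideal.algebraMap_quotient_injective q.ResidueField P.ResidueField
    (Ideal.Quotient.mk P y) (by rwa [Ne, Ideal.Quotient.eq_zero_iff_mem])
  rw [Ideal.algebraMap_quotient_residueField_mk] at h
  rw [oP, nrmP, ← h]
  congr 2
  rw [← Module.length_eq_of_surjective (R := A ⧸ q) (S := A)
    (M := (C ⧸ P) ⧸ Ideal.span {Ideal.Quotient.mk P y}) Ideal.Quotient.mk_surjective]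
  have he : (P ⊔ Ideal.span {y}).map (Ideal.Quotient.mkₐ A P) = Ideal.span {Ideal.Quotient.mk P y} := by
    rw [Ideal.map_sup, Ideal.map_span, Set.image_singleton]
    change (P.map (Ideal.Quotient.mk P)) ⊔ _ = _
    rw [Ideal.map_quotient_self, bot_sup_eq]
    rfl
  exact ((Ideal.quotientEquivAlgOfEq A he.symm).trans
    (DoubleQuot.quotQuotEquivQuotOfLEₐ A (le_sup_left : P ≤ P ⊔ Ideal.span {y}))).toLinearEquiv.length_eq

theorem oP_mul (hA : ringKrullDim A = 2) {P : Ideal C} [P.IsPrime] (hP : Good P) {z w : P.ResidueField}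
    (hz : z ≠ 0) (hw : w ≠ 0) : oP A P (z * w) = oP A P z + oP A P w := by
  have := krullDimLE_one_quot hA (under_notMem_minimalPrimes (A := A) hP)
  let := Localization.AtPrime.algebraOfLiesOver (P.under A) P
  have : Algebra.QuasiFinite A C := inferInstance
  have : Module.Finite (P.under A).ResidueField P.ResidueField := inferInstance
  rw [oP, oP, oP, map_mul]
  exact Groth.RefRank.ordFrac_mul' (Algebra.norm_ne_zero_iff.2 hz) (Algebra.norm_ne_zero_iff.2 hw)

theorem oP_neg_one (hA : ringKrullDim A = 2) {P : Ideal C} [P.IsPrime] (hP : Good P) : oP A P (-1) = 0 := by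
  have h1 : oP A P 1 = 0 := by
    have := oP_mul hA hP (z := 1) (w := 1) one_ne_zero one_ne_zero
    rw [one_mul] at this
    omega
  have := oP_mul hA hP (z := -1) (w := -1) (neg_ne_zero.2 one_ne_zero) (neg_ne_zero.2 one_ne_zero)
  rw [neg_mul_neg, one_mul, h1] at this
  omega

theorem oP_pow (hA : ringKrullDim A = 2) {P : Ideal C} [P.IsPrime] (hP : Good P) {z : P.ResidueField} (hz : z ≠ 0) :
    ∀ n : ℕ, oP A P (z ^ n) = n * oP A P z
  | 0 => by
    have h1 := oP_mul hA hP (z := 1) (w := 1) one_ne_zero one_ne_zero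
    rw [one_mul] at h1
    rw [pow_zero]; push_cast; omega
  | n + 1 => by rw [pow_succ, oP_mul hA hP (pow_ne_zero n hz) hz, oP_pow hA hP hz n]; push_cast; ring

end Groth.MilnorKLambda.Key
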