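import Groth.Agent.MilnorKLambda.Tame1.Laws
import Groth.Agent.Surfaces.DetLength
import Mathlib.RingTheory.Ideal.AssociatedPrime.Finiteness
import Mathlib.RingTheory.Ideal.Height

/-!
# Primes of height one in a finite algebra over a two-dimensional local ring
-/

set_option autoImplicit false
universe u

open IsLocalRing

namespace Groth.MilnorKLambda.Key

variable {C : Type u} [CommRing C]

/-- `P` is neither maximal nor minimal. -/
def Good (P : Ideal C) : Prop := P.IsPrime ∧ ¬P.IsMaximal ∧ P ∉ minimalPrimes C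

theorem good_of_nzd {P : Ideal C} [P.IsPrime] (hP : ¬P.IsMaximal) {x : C} (hx : x ∈ nonZeroDivisors C) (hxP : x ∈ P) :
    Good P :=
  ⟨‹_›, hP, fun h => notMem_nonZeroDivisors_of_mem_mem_minimalPrimes hxP h hx⟩

section overA

variable {A : Type u} [CommRing A] [IsLocalRing A] [Algebra A C] [Module.Finite A C]

theorem no_chain (hA : ringKrullDim A = 2) {P0 P1 P2 : Ideal C} [P0.IsPrime] [P1.IsPrime] [P2.IsPrime]
    (h01 : P0 < P1) (h12 : P1 < P2) : P2.IsMaximal := by
  by_contra h
  obtain ⟨P3, hP3, h23⟩ := Ideal.exists_le_maximal P2 Ideal.IsPrime.ne_top'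
  have h23' : P2 < P3 := lt_of_le_of_ne h23 fun e => h (e ▸ hP3)
  have := hP3.isPrime
  let c : ∀ (P : Ideal C) [P.IsPrime], PrimeSpectrum A := fun P _ => ⟨P.comap (algebraMap A C), inferInstance⟩
  have hc : ∀ {P P' : Ideal C} [P.IsPrime] [P'.IsPrime], P < P' → c P < c P' := fun {P P'} _ _ h =>
    Ideal.IsIntegral.comap_lt_comap (R := A) h
  let s : LTSeries (PrimeSpectrum A) :=
    (((RelSeries.singleton _ (c P0)).snoc (c P1) (hc h01)).snoc (c P2)
      (by rw [RelSeries.last_snoc]; exact hc h12)).snoc (c P3) (by rw [RelSeries.last_snoc]; exact hc h23')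
  have : ((s.length : ℕ) : WithBot ℕ∞) ≤ ringKrullDim A := Order.LTSeries.length_le_krullDim s
  rw [hA] at this
  simp [s] at this
  norm_cast at this

theorem Good.eq_of_le (hA : ringKrullDim A = 2) {P P' : Ideal C} [P'.IsPrime] (hP : Good P) (h : P' ≤ P) :
    P' = P ∨ P' ∈ minimalPrimes C := by
  by_contra hc
  push Not at hc
  obtain ⟨P0, hP0, hle⟩ := Ideal.exists_minimalPrimes_le (bot_le : ⊥ ≤ P')
  have := hP0.1.1
  have := hP.1
  exact hP.2.1 (no_chain hA (lt_of_le_of_ne hle fun e => hc.2 (e ▸ hP0)) (lt_of_le_of_ne h hc.1))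

theorem Good.not_le (hA : ringKrullDim A = 2) {P P' : Ideal C} (hP : Good P) (hP' : Good P') (hne : P' ≠ P) :
    ¬ P' ≤ P := fun h => by
  have := hP'.1
  exact (hP.eq_of_le hA h).elim hne hP'.2.2

theorem krullDimLE_one_atPrime (hA : ringKrullDim A = 2) {P : Ideal C} [P.IsPrime] (hP : ¬P.IsMaximal) :
    Ring.KrullDimLE 1 (Localization.AtPrime P) := by
  set f := algebraMap C (Localization.AtPrime P)
  refine Ring.KrullDimLE.mk₁ fun I hI => ?_
  by_contra hc
  push Not at hc
  obtain ⟨hmin, hmax⟩ := hc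
  obtain ⟨I0, hI0, hle⟩ := Ideal.exists_minimalPrimes_le (bot_le : ⊥ ≤ I)
  have := hI0.1.1
  have hlt : I0.comap f < I.comap f := by
    refine lt_of_le_of_ne (Ideal.comap_mono hle) fun e => hmin ?_
    have e' := congrArg (Ideal.map f) e
    rw [show (I0.comap f).map f = I0 from IsLocalization.map_comap P.primeCompl _ I0,
      show (I.comap f).map f = I from IsLocalization.map_comap P.primeCompl _ I] at e'
    exact e' ▸ hI0
  have hle' : I.comap f ≤ P := fun x hx => by
    by_contra hxP
    exact hI.ne_top (Ideal.eq_top_of_isUnit_mem _ hx ((IsLocalization.AtPrime.isUnit_to_map_iff _ P x).2 hxP))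
  refine hP (no_chain hA hlt (lt_of_le_of_ne hle' fun e => hmax ?_))
  rw [← IsLocalization.map_comap P.primeCompl _ I, show I.under C = P from e, Localization.AtPrime.map_eq_maximalIdeal]
  exact maximalIdeal.isMaximal _

variable [IsNoetherianRing A]

/-- The primes, not maximal, containing a nonzerodivisor form a finite set. -/
theorem zeros_finite (hA : ringKrullDim A = 2) {x : C} (hx : x ∈ nonZeroDivisors C) :
    {P : PrimeSpectrum C | Good P.asIdeal ∧ x ∈ P.asIdeal}.Finite := by
  have : IsNoetherianRing C := Algebra.FiniteType.isNoetherianRing A C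
  refine Set.Finite.subset (Set.Finite.preimage (Function.Injective.injOn fun a b h => PrimeSpectrum.ext h)
    ((Ideal.span {x}).finite_minimalPrimes_of_isNoetherianRing C)) fun P hP => ?_
  refine ⟨⟨P.2, (Ideal.span_singleton_le_iff_mem _).2 hP.2⟩, fun P' hP' hle => ?_⟩
  have := hP'.1
  rcases hP.1.eq_of_le hA hle with h | h
  · exact h.ge
  · exact absurd hx (notMem_nonZeroDivisors_of_mem_mem_minimalPrimes (hP'.2 (Ideal.mem_span_singleton_self x)) h)

/-- An element with prescribed behaviour at finitely many good primes. -/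
theorem exists_prescribed (hA : ringKrullDim A = 2) {t : A} (ht : t ∈ maximalIdeal A)
    (htC : algebraMap A C t ∈ nonZeroDivisors C) (s : Finset (PrimeSpectrum C))
    (hs : ∀ P ∈ s, Good P.asIdeal) (z : ∀ P : PrimeSpectrum C, Localization.AtPrime P.asIdeal)
    (hz : ∀ P ∈ s, z P ∈ nonZeroDivisors (Localization.AtPrime P.asIdeal)) :
    ∃ p : C, p ∈ nonZeroDivisors C ∧ ∀ P ∈ s, Associated (z P) (algebraMap C (Localization.AtPrime P.asIdeal) p) := by
  classical
  have : IsNoetherianRing C := Algebra.FiniteType.isNoetherianRing A C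
  choose gs hgs using fun P : PrimeSpectrum C => IsLocalization.surj P.asIdeal.primeCompl (z P)
  have hN : ∀ P ∈ s, ∃ N, maximalIdeal (Localization.AtPrime P.asIdeal) ^ N ≤ Ideal.span {z P} := fun P hP => by
    have := krullDimLE_one_atPrime hA (hs P hP).2.1
    exact Amb.exists_pow_le_span (hz P hP)
  choose! N hN using hN
  have he : ∀ P ∈ s, ∃ e ∉ P.asIdeal, ∀ P' ∈ s, P' ≠ P → e ∈ P'.asIdeal ^ (N P' + 1) := fun P hP => by
    have h : ∀ P' : PrimeSpectrum C, ∃ w : C, w ∉ P.asIdeal ∧ (P' ∈ s → P' ≠ P → w ∈ P'.asIdeal ^ (N P' + 1)) := by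
      intro P'
      by_cases h : P' ∈ s ∧ P' ≠ P
      · obtain ⟨w, hw, hw'⟩ := Set.not_subset.1 ((hs P hP).not_le hA (hs _ h.1) fun e => h.2 (PrimeSpectrum.ext e))
        exact ⟨w ^ (N P' + 1), fun hm => hw' (P.2.mem_of_pow_mem _ hm), fun _ _ => Ideal.pow_mem_pow hw _⟩
      · exact ⟨1, fun hm => P.2.ne_top ((Ideal.eq_top_iff_one _).2 hm), fun h1 h2 => absurd ⟨h1, h2⟩ h⟩
    choose w hw1 hw2 using h
    refine ⟨∏ P' ∈ s, w P', fun h => ?_, fun P' hP' hne => Ideal.mem_of_dvd _ (Finset.dvd_prod_of_mem w hP') (hw2 P' hP' hne)⟩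
    obtain ⟨P', -, hP'⟩ := (P.2.prod_mem_iff).1 h
    exact hw1 P' hP'
  choose! e he1 he2 using he
  set x := ∑ P ∈ s, e P * (gs P).1
  let K : Ideal C := ∏ P ∈ s, P.asIdeal ^ (N P + 1)
  have hassoc : ∀ P ∈ s, ∀ y ∈ K, Associated (z P) (algebraMap C (Localization.AtPrime P.asIdeal) (x + y)) := by
    intro P hP y hy
    set f := algebraMap C (Localization.AtPrime P.asIdeal)
    have hu : ∀ {w : C}, w ∉ P.asIdeal → IsUnit (f w) := fun hw => (IsLocalization.AtPrime.isUnit_to_map_iff _ P.asIdeal _).2 hw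
    have hKP : y ∈ P.asIdeal ^ (N P + 1) := Ideal.le_of_dvd (Finset.dvd_prod_of_mem _ hP) hy
    have hrest : x + y - e P * (gs P).1 ∈ P.asIdeal ^ (N P + 1) := by
      rw [add_sub_right_comm]
      refine add_mem ?_ hKP
      rw [← Finset.sum_erase_eq_sub hP]
      exact Ideal.sum_mem _ fun P' hP' => Ideal.mul_mem_right _ _
        (he2 P' (Finset.mem_of_mem_erase hP') P hP (Finset.ne_of_mem_erase hP').symm)
    have hmem : f (x + y - e P * (gs P).1) ∈ Ideal.span {z P} * maximalIdeal _ := by
      have h1 : f (x + y - e P * (gs P).1) ∈ maximalIdeal (Localization.AtPrime P.asIdeal) ^ (N P + 1) := by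
        rw [← Localization.AtPrime.map_eq_maximalIdeal, ← Ideal.map_pow]
        exact Ideal.mem_map_of_mem _ hrest
      rw [pow_succ] at h1
      exact Ideal.mul_mono_left (hN P hP) h1
    obtain ⟨d, hd, hd'⟩ := Ideal.mem_span_singleton_mul.1 hmem
    have hue : IsUnit (f (e P) * f (gs P).2 + d) := by
      rw [← residue_ne_zero_iff_isUnit, map_add, (residue_eq_zero_iff d).2 hd, add_zero, residue_ne_zero_iff_isUnit]
      exact (hu (he1 P hP)).mul (hu (gs P).2.2)
    refine ⟨hue.unit, ?_⟩
    rw [IsUnit.unit_spec, mul_add, hd', mul_left_comm, hgs P, map_sub, map_mul]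
    ring
  obtain ⟨y, hy, hnot⟩ := Groth.Surfaces.DetLength.exists_add_notMem (associatedPrimes.finite C C).toFinset
    (fun P hP => ((associatedPrimes.finite C C).mem_toFinset.1 hP).isPrime) x K (fun Q hQ hle => by
      have hQ' : Q ∈ associatedPrimes C C := (associatedPrimes.finite C C).mem_toFinset.1 hQ
      have hxQ : x ∈ Q := hle (Submodule.mem_sup_left (Ideal.mem_span_singleton_self x))
      obtain ⟨P, hP, hPQ⟩ := (Ideal.IsPrime.prod_le hQ'.isPrime).1 ((le_sup_right : K ≤ _).trans hle)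
      have hPQ' : P.asIdeal ≤ Q := hQ'.isPrime.le_of_pow_le hPQ
      obtain ⟨_, c, hc⟩ := isAssociatedPrime_iff.1 hQ'
      -- `c` is killed by `x` and by `P`
      have hxc : x * c = 0 := by
        have : x ∈ (⊥ : Ideal C).colon {c} := hc ▸ hxQ
        simpa [Submodule.mem_colon_singleton] using this
      have hfc : algebraMap C (Localization.AtPrime P.asIdeal) c = 0 := by
        have hz' := hz P hP
        obtain ⟨v, hv⟩ := hassoc P hP 0 K.zero_mem
        refine (mem_nonZeroDivisors_iff_right.1 (mul_mem hz' v.isUnit.mem_nonZeroDivisors)) _ ?_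
        rw [hv, add_zero, ← map_mul, mul_comm, hxc, map_zero]
      obtain ⟨⟨w, hw⟩, hwc⟩ := (IsLocalization.map_eq_zero_iff P.asIdeal.primeCompl _ _).1 hfc
      have hwQ : w ∈ Q := by
        rw [hc]
        simpa [Submodule.mem_colon_singleton] using hwc
      rcases (eq_or_ne P.asIdeal Q) with h | h
      · exact hw (h.symm ▸ hwQ)
      · have := P.2
        have := hQ'.isPrime
        have hgood := hs P hP
        obtain ⟨P0, hP0, hle0⟩ := Ideal.exists_minimalPrimes_le (bot_le : ⊥ ≤ P.asIdeal)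
        have := hP0.1.1
        have hmax : Q.IsMaximal := no_chain hA (lt_of_le_of_ne hle0 fun e => hgood.2.2 (e ▸ hP0)) (lt_of_le_of_ne hPQ' h)
        have htQ : algebraMap A C t ∈ Q := (Ideal.mem_comap (f := algebraMap A C)).1 (by
          rw [eq_maximalIdeal (Ideal.isMaximal_comap_of_isIntegral_of_isMaximal (R := A) Q)]; exact ht)
        have hc0 : c = 0 := (mem_nonZeroDivisors_iff_right.1 htC) c (by
          have : algebraMap A C t ∈ (⊥ : Ideal C).colon {c} := hc ▸ htQ
          simpa [Submodule.mem_colon_singleton, mul_comm] using this)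
        refine hmax.ne_top ?_
        rw [hc, hc0, Ideal.eq_top_iff_one, Submodule.mem_colon_singleton]
        simp)
  refine ⟨x + y, ?_, fun P hP => hassoc P hP y hy⟩
  rw [mem_nonZeroDivisors_iff_right]
  intro w hw
  by_contra hne
  obtain ⟨Q, hQ, hle⟩ := exists_le_isAssociatedPrime_of_isNoetherianRing C w hne
  refine hnot Q ((associatedPrimes.finite C C).mem_toFinset.2 hQ) (hle ?_)
  simpa [Submodule.mem_colon_singleton, mul_comm] using hw

end overA

end Groth.MilnorKLambda.Key
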