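import Groth.Agent.MilnorKLambda.Key.OrdNorm
import Groth.Agent.MilnorKLambda.Tame1.Single

/-!
# The vanishing of the total order of tame symbols on a semilocal algebra
-/

set_option autoImplicit false
universe u

open IsLocalRing CycAlg

namespace Groth.MilnorKLambda.Key

open Groth.MilnorKLambda

variable {A : Type u} [CommRing A] [IsLocalRing A] [IsNoetherianRing A]
  {C : Type u} [CommRing C] [Algebra A C] [Module.Finite A C]

/-- The image in the local ring at `P`. -/
noncomputable abbrev at' (P : Ideal C) [P.IsPrime] (x : C) : Localization.AtPrime P := algebraMap C (Localization.AtPrime P) x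

/-- The local term. -/
noncomputable def τ (A : Type u) [CommRing A] {C : Type u} [CommRing C] [Algebra A C] (P : Ideal C) [P.IsPrime] (x y : C) : ℤ :=
  oP A P (CycAlg.tameSymbol (Localization.AtPrime P) (at' P x) (at' P y))

/-- The good primes. -/
abbrev GP (C : Type u) [CommRing C] : Type u := {P : PrimeSpectrum C // Good P.asIdeal}

/-- The total. -/
noncomputable def T (A : Type u) [CommRing A] {C : Type u} [CommRing C] [Algebra A C] (x y : C) : ℤ :=
  ∑ᶠ P : GP C, τ A P.1.asIdeal x y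

theorem at'_nzd (P : Ideal C) [P.IsPrime] {x : C} (hx : x ∈ nonZeroDivisors C) :
    at' P x ∈ nonZeroDivisors (Localization.AtPrime P) :=
  IsLocalization.map_nonZeroDivisors_le P.primeCompl _ ⟨x, hx, rfl⟩

theorem at'_isUnit (P : Ideal C) [P.IsPrime] {x : C} (hx : x ∉ P) : IsUnit (at' P x) :=
  (IsLocalization.AtPrime.isUnit_to_map_iff _ P x).2 hx

section local_laws

variable (hA : ringKrullDim A = 2) {P : Ideal C} [P.IsPrime] (hP : Good P)
include hA hP

theorem τ_mul {x x' y : C} (hx : x ∈ nonZeroDivisors C) (hx' : x' ∈ nonZeroDivisors C) (hy : y ∈ nonZeroDivisors C) :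
    τ A P (x * x') y = τ A P x y + τ A P x' y := by
  have : IsNoetherianRing C := Algebra.FiniteType.isNoetherianRing A C
  have := krullDimLE_one_atPrime hA hP.2.1
  rw [τ, τ, τ, at', map_mul, (Amb.tameSymbol_mul (at'_nzd P hx) (at'_nzd P hx') (at'_nzd P hy)).1,
    oP_mul hA hP (Amb.tameSymbol_ne_zero (at'_nzd P hx) (at'_nzd P hy))
      (Amb.tameSymbol_ne_zero (at'_nzd P hx') (at'_nzd P hy))]

theorem τ_swap {x y : C} (hx : x ∈ nonZeroDivisors C) (hy : y ∈ nonZeroDivisors C) :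
    τ A P x y = -τ A P y x := by
  have : IsNoetherianRing C := Algebra.FiniteType.isNoetherianRing A C
  have := krullDimLE_one_atPrime hA hP.2.1
  have h := oP_mul hA hP (Amb.tameSymbol_ne_zero (at'_nzd P hx) (at'_nzd P hy))
    (Amb.tameSymbol_ne_zero (at'_nzd P hy) (at'_nzd P hx))
  rw [Amb.tameSymbol_swap (at'_nzd P hx) (at'_nzd P hy)] at h
  have h1 := oP_pow hA hP (z := (1 : P.ResidueField)) one_ne_zero 0
  rw [pow_zero, Nat.cast_zero, zero_mul] at h1
  rw [τ, τ]
  have h1' : oP A P (1 : P.ResidueField) = 0 := h1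
  linarith [h.symm.trans h1']

theorem τ_units {x y : C} (hx : x ∉ P) (hy : y ∉ P) : τ A P x y = 0 := by
  have : IsNoetherianRing C := Algebra.FiniteType.isNoetherianRing A C
  have := krullDimLE_one_atPrime hA hP.2.1
  have h1 := oP_pow hA hP (z := (1 : P.ResidueField)) one_ne_zero 0
  rw [pow_zero, Nat.cast_zero, zero_mul] at h1
  rw [τ, Amb.tameSymbol_units (at'_isUnit P hx) (at'_isUnit P hy)]
  exact h1

theorem τ_unit_left {x y : C} (hx : x ∉ P) (hy : y ∈ nonZeroDivisors C) :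
    τ A P x y = ((Ring.ord (Localization.AtPrime P) (at' P y)).toNat : ℤ) *
      ((Module.length A (C ⧸ (P ⊔ Ideal.span {x}))).toNat : ℤ) := by
  have : IsNoetherianRing C := Algebra.FiniteType.isNoetherianRing A C
  have := krullDimLE_one_atPrime hA hP.2.1
  obtain ⟨c, hc⟩ := at'_isUnit P hx
  have hne : algebraMap C P.ResidueField x ≠ 0 := fun h => hx (Ideal.algebraMap_residueField_eq_zero.1 h)
  rw [τ, ← hc, Amb.tameSymbol_unit_left c (at'_nzd P hy), hc]
  rw [show residue (Localization.AtPrime P) (at' P x) = algebraMap C P.ResidueField x from rfl, oP_pow hA hP hne,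
    oP_algebraMap hA hP hx]
  rfl

theorem τ_self {x : C} (hx : x ∈ nonZeroDivisors C) : τ A P x x = 0 := by
  have h := τ_swap hA hP hx hx
  omega

end local_laws

variable (hA : ringKrullDim A = 2)
include hA

theorem support_finite {x y : C} (hx : x ∈ nonZeroDivisors C) (hy : y ∈ nonZeroDivisors C) :
    (Function.support fun P : GP C => τ A P.1.asIdeal x y).Finite := by
  refine Set.Finite.subset (Set.Finite.preimage Subtype.val_injective.injOn
    (zeros_finite hA (mul_mem hx hy))) ?_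
  intro P hP
  refine ⟨P.2, ?_⟩
  by_contra h
  exact hP (τ_units hA P.2 (fun h' => h (Ideal.mul_mem_right _ _ h')) fun h' => h (Ideal.mul_mem_left _ _ h'))

theorem T_mul {x x' y : C} (hx : x ∈ nonZeroDivisors C) (hx' : x' ∈ nonZeroDivisors C) (hy : y ∈ nonZeroDivisors C) :
    T A (x * x') y = T A x y + T A x' y := by
  rw [T, finsum_congr fun P : GP C => τ_mul hA P.2 hx hx' hy]
  exact finsum_add_distrib (support_finite hA hx hy) (support_finite hA hx' hy)

theorem T_swap {x y : C} (hx : x ∈ nonZeroDivisors C) (hy : y ∈ nonZeroDivisors C) : T A x y = -T A y x := by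
  rw [T, T, ← finsum_neg_distrib]
  exact finsum_congr fun P => τ_swap hA P.2 hx hy

theorem T_mul_right {x y y' : C} (hx : x ∈ nonZeroDivisors C) (hy : y ∈ nonZeroDivisors C) (hy' : y' ∈ nonZeroDivisors C) :
    T A x (y * y') = T A x y + T A x y' := by
  rw [T_swap hA hx (mul_mem hy hy'), T_swap hA hx hy, T_swap hA hx hy', T_mul hA hy hy' hx]
  ring

theorem T_one_right {x : C} (hx : x ∈ nonZeroDivisors C) : T A x 1 = 0 := by
  have := T_mul_right hA hx (one_mem _) (one_mem _)
  rw [one_mul] at this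
  omega

theorem T_prod_pow {ι : Type*} (s : Finset ι) (g : ι → C) (e : ι → ℕ) {x : C} (hx : x ∈ nonZeroDivisors C)
    (hg : ∀ i ∈ s, g i ∈ nonZeroDivisors C) :
    T A x (∏ i ∈ s, g i ^ e i) = ∑ i ∈ s, (e i : ℤ) * T A x (g i) := by
  classical
  induction s using Finset.induction_on with
  | empty => simp [T_one_right hA hx]
  | insert i s hi ih =>
    have hg' : ∀ j ∈ s, g j ∈ nonZeroDivisors C := fun j hj => hg j (Finset.mem_insert_of_mem hj)
    rw [Finset.prod_insert hi, Finset.sum_insert hi,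
      T_mul_right hA hx (pow_mem (hg i (Finset.mem_insert_self i s)) _) (prod_mem fun j hj => pow_mem (hg' j hj) _),
      ih hg']
    congr 1
    induction e i with
    | zero => rw [pow_zero, T_one_right hA hx]; simp
    | succ n ihn =>
      rw [pow_succ, T_mul_right hA hx (pow_mem (hg i (Finset.mem_insert_self i s)) n) (hg i (Finset.mem_insert_self i s)), ihn]
      push_cast; ring

/-- The multiplicity of `C/yC` with respect to multiplication by `x`, written symmetrically. -/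
theorem herbrand_quot_eq {x y : C} (hx : x ∈ nonZeroDivisors C) :
    herbrand A (0 : (C ⧸ Ideal.span {y}) →ₗ[A] _) (mulY A x (C ⧸ Ideal.span {y})) =
      ((Per.rl (⊤ : Submodule A C) ((Ideal.span {x}).restrictScalars A ⊔ (Ideal.span {y}).restrictScalars A)).toNat : ℤ) -
      ((Per.rl ((Ideal.span {x}).restrictScalars A ⊓ (Ideal.span {y}).restrictScalars A)
        ((Ideal.span {x * y}).restrictScalars A)).toNat : ℤ) := by
  set q := (Ideal.Quotient.mkₐ A (Ideal.span {y})).toLinearMap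
  have hker : LinearMap.ker q = (Ideal.span {y}).restrictScalars A := by
    ext z; simp [q, Ideal.Quotient.eq_zero_iff_mem]
  have hsurj : LinearMap.range q = ⊤ := LinearMap.range_eq_top.2 Ideal.Quotient.mk_surjective
  set K : Submodule A C := ((Ideal.span {y}).restrictScalars A).comap (LinearMap.mulLeft A x)
  have h1 : LinearMap.range (mulY A x (C ⧸ Ideal.span {y})) = ((Ideal.span {x}).restrictScalars A).map q := by
    ext z
    constructor
    · rintro ⟨w, rfl⟩
      obtain ⟨w, rfl⟩ := Ideal.Quotient.mk_surjective w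
      exact ⟨x * w, Ideal.mem_span_singleton.2 ⟨w, rfl⟩, rfl⟩
    · rintro ⟨w, hw, rfl⟩
      obtain ⟨w, rfl⟩ := Ideal.mem_span_singleton.1 hw
      exact ⟨q w, rfl⟩
  have h2 : LinearMap.ker (mulY A x (C ⧸ Ideal.span {y})) = K.map q := by
    ext z
    obtain ⟨z, rfl⟩ := Ideal.Quotient.mk_surjective z
    constructor
    · intro hz
      exact ⟨z, Ideal.Quotient.eq_zero_iff_mem.1 hz, rfl⟩
    · rintro ⟨w, hw, hwz⟩
      rw [LinearMap.mem_ker, ← show q w = Ideal.Quotient.mk _ z from hwz]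
      exact Ideal.Quotient.eq_zero_iff_mem.2 hw
  have hYK : (Ideal.span {y}).restrictScalars A ≤ K := fun z hz => Ideal.mul_mem_left _ x hz
  have e1 : Per.rl (⊤ : Submodule A (C ⧸ Ideal.span {y})) (LinearMap.range (mulY A x (C ⧸ Ideal.span {y}))) =
      Per.rl (⊤ : Submodule A C) ((Ideal.span {x}).restrictScalars A ⊔ (Ideal.span {y}).restrictScalars A) := by
    rw [h1, ← hsurj, ← Submodule.map_top, Per.rl_map q le_top, hker, inf_top_eq]
  have e2 : Per.rl (LinearMap.ker (mulY A x (C ⧸ Ideal.span {y}))) ⊥ =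
      Per.rl ((Ideal.span {x}).restrictScalars A ⊓ (Ideal.span {y}).restrictScalars A)
        ((Ideal.span {x * y}).restrictScalars A) := by
    rw [h2, ← Submodule.map_bot q, Per.rl_map q bot_le, hker, bot_sup_eq, inf_eq_left.2 hYK,
      ← Per.rl_map_of_injective (LinearMap.mulLeft A x)
        (fun p p' h => sub_eq_zero.1 ((mem_nonZeroDivisors_iff.1 hx).1 _ (by rw [mul_sub]; exact sub_eq_zero.2 h))) hYK]
    congr 1
    · rw [Submodule.map_comap_eq]
      congr 1
      ext z
      simp [Ideal.mem_span_singleton', mul_comm, eq_comm]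
    · ext z
      simp only [Submodule.mem_map, Submodule.restrictScalars_mem, Ideal.mem_span_singleton', LinearMap.mulLeft_apply]
      constructor
      · rintro ⟨w, ⟨c, rfl⟩, rfl⟩; exact ⟨c, by ring⟩
      · rintro ⟨c, rfl⟩; exact ⟨c * y, ⟨c, rfl⟩, by ring⟩
  rw [herbrand, Per.perH_length, Per.perH_length, LinearMap.ker_zero, LinearMap.range_zero, e1, e2]

open scoped Classical in
/-- Both sides of the symmetry. -/
theorem herbrand_quot_sum {x y : C} (hy : y ∈ nonZeroDivisors C) (hdis : ∀ P : GP C, x ∈ P.1.asIdeal → y ∈ P.1.asIdeal → False)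
    {s : Finset (GP C)} (hs : ∀ P, P ∈ s ↔ y ∈ P.1.asIdeal) :
    herbrand A (0 : (C ⧸ Ideal.span {y}) →ₗ[A] _) (mulY A x (C ⧸ Ideal.span {y})) =
      ∑ P ∈ s, ((Ring.ord (Localization.AtPrime P.1.asIdeal) (at' P.1.asIdeal y)).toNat : ℤ) *
        ((Module.length A (C ⧸ (P.1.asIdeal ⊔ Ideal.span {x}))).toNat : ℤ) := by
  have hsupp : ∀ p : PrimeSpectrum C, p ∈ Module.support C (C ⧸ Ideal.span {y}) ↔ y ∈ p.asIdeal := fun p => by
    rw [Module.support_eq_zeroLocus, Ideal.annihilator_quotient]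
    exact (Ideal.span_singleton_le_iff_mem p.asIdeal)
  have h1 : ∀ p : PrimeSpectrum C, p ∈ s.map (Function.Embedding.subtype _) ↔
      p ∈ Module.support C (C ⧸ Ideal.span {y}) ∧ ¬ p.asIdeal.IsMaximal := fun p => by
    rw [hsupp]
    constructor
    · intro hp
      obtain ⟨P, hP, rfl⟩ := Finset.mem_map.1 hp
      exact ⟨(hs P).1 hP, P.2.2.1⟩
    · rintro ⟨hp, hmax⟩
      exact Finset.mem_map.2 ⟨⟨p, good_of_nzd hmax hy hp⟩, (hs _).2 hp, rfl⟩
  have h2 : ∀ p ∈ s.map (Function.Embedding.subtype fun P : PrimeSpectrum C => Good P.asIdeal),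
      Minimal (fun q => q ∈ Module.support C (C ⧸ Ideal.span {y})) p := by
    intro p hp
    obtain ⟨P, hP, rfl⟩ := Finset.mem_map.1 hp
    refine ⟨(hsupp _).2 ((hs P).1 hP), fun q hq hqp => ?_⟩
    rcases P.2.eq_of_le hA (P' := q.asIdeal) hqp with h | h
    · exact h.ge
    · exact absurd hy (notMem_nonZeroDivisors_of_mem_mem_minimalPrimes ((hsupp q).1 hq) h)
  have h3 : ∀ p ∈ s.map (Function.Embedding.subtype fun P : PrimeSpectrum C => Good P.asIdeal), x ∉ p.asIdeal := by
    intro p hp hxp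
    obtain ⟨P, hP, rfl⟩ := Finset.mem_map.1 hp
    exact hdis P hxp ((hs P).1 hP)
  rw [herbrand_eq_sum x (C ⧸ Ideal.span {y}) _ h1 h2 h3, Finset.sum_map]
  refine Finset.sum_congr rfl fun P _ => ?_
  have hlq : Per.lq P.1.asIdeal (C ⧸ Ideal.span {y}) = Ring.ord (Localization.AtPrime P.1.asIdeal) (at' P.1.asIdeal y) := by
    let L := Localization.AtPrime P.1.asIdeal
    let f := (Ideal.span {y}).toLocalizedQuotient' L P.1.asIdeal.primeCompl (Algebra.linearMap C L)
    rw [Per.lq, ((IsLocalizedModule.iso P.1.asIdeal.primeCompl f).extendScalarsOfIsLocalization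
      P.1.asIdeal.primeCompl L).length_eq, Ring.ord]
    refine (Submodule.quotEquivOfEq _ _ ?_).length_eq
    rw [Ideal.localized'_eq_map, Ideal.map_span, Set.image_singleton]
  rw [Function.Embedding.coe_subtype, hlq, mul_comm]

theorem T_disjoint {x y : C} (hx : x ∈ nonZeroDivisors C) (hy : y ∈ nonZeroDivisors C)
    (hdis : ∀ P : GP C, x ∈ P.1.asIdeal → y ∈ P.1.asIdeal → False) : T A x y = 0 := by
  classical
  have hfin : ∀ {z : C}, z ∈ nonZeroDivisors C → {P : GP C | z ∈ P.1.asIdeal}.Finite := fun {z} hz =>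
    Set.Finite.subset (Set.Finite.preimage Subtype.val_injective.injOn (zeros_finite hA hz)) fun P hP => ⟨P.2, hP⟩
  set sx := (hfin hx).toFinset
  set sy := (hfin hy).toFinset
  have hsx : ∀ P, P ∈ sx ↔ x ∈ P.1.asIdeal := fun P => (hfin hx).mem_toFinset
  have hsy : ∀ P, P ∈ sy ↔ y ∈ P.1.asIdeal := fun P => (hfin hy).mem_toFinset
  have hd : Disjoint sx sy := Finset.disjoint_left.2 fun P h h' => hdis P ((hsx P).1 h) ((hsy P).1 h')
  have e : T A x y = ∑ P ∈ sx ∪ sy, τ A P.1.asIdeal x y := by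
    rw [T, finsum_eq_sum_of_support_subset]
    intro P hP
    by_contra h
    simp only [Finset.coe_union, Set.mem_union, Finset.mem_coe, hsx, hsy, not_or] at h
    exact hP (τ_units hA P.2 h.1 h.2)
  rw [e, Finset.sum_union hd]
  have h1 : ∑ P ∈ sy, τ A P.1.asIdeal x y = herbrand A (0 : (C ⧸ Ideal.span {y}) →ₗ[A] _) (mulY A x (C ⧸ Ideal.span {y})) := by
    rw [herbrand_quot_sum hA hy hdis hsy]
    exact Finset.sum_congr rfl fun P hP => τ_unit_left hA P.2 (fun h => hdis P h ((hsy P).1 hP)) hy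
  have h2 : ∑ P ∈ sx, τ A P.1.asIdeal x y = -herbrand A (0 : (C ⧸ Ideal.span {x}) →ₗ[A] _) (mulY A y (C ⧸ Ideal.span {x})) := by
    rw [herbrand_quot_sum hA hx (fun P h h' => hdis P h' h) hsx, ← Finset.sum_neg_distrib]
    exact Finset.sum_congr rfl fun P hP => by
      rw [τ_swap hA P.2 hx hy, τ_unit_left hA P.2 (fun h => hdis P ((hsx P).1 hP) h) hx]
  rw [h1, h2, herbrand_quot_eq hA hx, herbrand_quot_eq hA hy, sup_comm, inf_comm, mul_comm y x]
  ring

/-- Replace the second argument by one with the same behaviour at the zeros of the first. -/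
theorem T_congr {x y z : C} (hx : x ∈ nonZeroDivisors C) (hy : y ∈ nonZeroDivisors C) (hz : z ∈ nonZeroDivisors C)
    (h : ∀ P : GP C, x ∈ P.1.asIdeal → Associated (at' P.1.asIdeal y) (at' P.1.asIdeal z)) : T A x y = T A x z := by
  classical
  have : IsNoetherianRing C := Algebra.FiniteType.isNoetherianRing A C
  set J : Ideal C := (Ideal.span {z}).colon {y}
  have hJ : ∀ P : GP C, x ∈ P.1.asIdeal → ¬ J ≤ P.1.asIdeal := by
    intro P hP hle
    obtain ⟨v, hv⟩ := h P hP
    obtain ⟨c, ⟨s, hs⟩, hcs⟩ := IsLocalization.exists_mk'_eq P.1.asIdeal.primeCompl (v⁻¹ : (Localization.AtPrime P.1.asIdeal)ˣ).1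
    have : at' P.1.asIdeal (y * s) = at' P.1.asIdeal (z * c) := by
      have hy' : at' P.1.asIdeal y = at' P.1.asIdeal z * ((v⁻¹ : (Localization.AtPrime P.1.asIdeal)ˣ) : Localization.AtPrime P.1.asIdeal) := by
        rw [← hv, Units.mul_inv_cancel_right]
      simp only [at', map_mul] at hy' ⊢
      rw [hy', ← hcs, mul_assoc]
      exact congrArg (_ * ·) (IsLocalization.mk'_spec _ c ⟨s, hs⟩)
    obtain ⟨⟨w, hw⟩, hw'⟩ := (IsLocalization.eq_iff_exists P.1.asIdeal.primeCompl _).1 this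
    have hmem : w * s ∈ J := Submodule.mem_colon_singleton.2 (Ideal.mem_span_singleton.2 ⟨w * c, by
      rw [smul_eq_mul]; linear_combination hw'⟩)
    exact (P.1.2.mem_or_mem (hle hmem)).elim hw hs
  have hfin : {P : GP C | x ∈ P.1.asIdeal}.Finite :=
    Set.Finite.subset (Set.Finite.preimage Subtype.val_injective.injOn (zeros_finite hA hx)) fun P hP => ⟨P.2, hP⟩
  set bad : Finset (Ideal C) := (hfin.toFinset.image fun P => P.1.asIdeal) ∪ (associatedPrimes.finite C C).toFinset
  obtain ⟨s', hs'J, hs'⟩ := Groth.Surfaces.DetLength.exists_add_notMem bad (fun Q hQ => by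
    rcases Finset.mem_union.1 hQ with hQ | hQ
    · obtain ⟨P, -, rfl⟩ := Finset.mem_image.1 hQ; exact P.1.2
    · exact ((associatedPrimes.finite C C).mem_toFinset.1 hQ).isPrime) 0 J (fun Q hQ hle => by
    have hle' : J ≤ Q := le_sup_right.trans hle
    rcases Finset.mem_union.1 hQ with hQ | hQ
    · obtain ⟨P, hP, rfl⟩ := Finset.mem_image.1 hQ
      exact hJ P (hfin.mem_toFinset.1 hP) hle'
    · have hQ' : Q ∈ associatedPrimes C C := (associatedPrimes.finite C C).mem_toFinset.1 hQ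
      have hzQ : z ∈ Q := hle' (Submodule.mem_colon_singleton.2 (Ideal.mem_span_singleton.2 ⟨y, by rw [smul_eq_mul, mul_comm]⟩))
      obtain ⟨hQp, c, hc⟩ := isAssociatedPrime_iff.1 hQ'
      have hc0 : c = 0 := (mem_nonZeroDivisors_iff_right.1 hz) c (by
        have : z ∈ (⊥ : Ideal C).colon {c} := hc ▸ hzQ
        simpa [Submodule.mem_colon_singleton, mul_comm] using this)
      refine hQp.ne_top ?_
      rw [hc, hc0, Ideal.eq_top_iff_one, Submodule.mem_colon_singleton]
      simp)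
  simp only [zero_add] at hs'
  have hs'nzd : s' ∈ nonZeroDivisors C := by
    rw [mem_nonZeroDivisors_iff_right]
    intro w hw
    by_contra hne
    obtain ⟨Q, hQ, hle⟩ := exists_le_isAssociatedPrime_of_isNoetherianRing C w hne
    refine hs' Q (Finset.mem_union_right _ ((associatedPrimes.finite C C).mem_toFinset.2 hQ)) (hle ?_)
    simpa [Submodule.mem_colon_singleton, mul_comm] using hw
  have hs'x : ∀ P : GP C, x ∈ P.1.asIdeal → s' ∉ P.1.asIdeal := fun P hP => hs' _
    (Finset.mem_union_left _ (Finset.mem_image_of_mem (fun P : GP C => P.1.asIdeal) (hfin.mem_toFinset.2 hP)))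
  obtain ⟨s, hs⟩ := Ideal.mem_span_singleton.1 (Submodule.mem_colon_singleton.1 hs'J)
  rw [smul_eq_mul] at hs
  have hsnzd : s ∈ nonZeroDivisors C := (mul_mem_nonZeroDivisors.1 (hs ▸ mul_mem hs'nzd hy)).2
  have hsx : ∀ P : GP C, x ∈ P.1.asIdeal → s ∉ P.1.asIdeal := by
    intro P hP hsP
    obtain ⟨v, hv⟩ := h P hP
    have h1 : at' P.1.asIdeal z * (at' P.1.asIdeal s * v) = at' P.1.asIdeal z * at' P.1.asIdeal s' := by
      simp only [at'] at hv ⊢
      rw [← mul_assoc, ← map_mul, ← hs, map_mul, mul_comm (algebraMap C _ s'), mul_right_comm, hv]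
    have h2 : at' P.1.asIdeal s * v = at' P.1.asIdeal s' := sub_eq_zero.1
      ((mem_nonZeroDivisors_iff.1 (at'_nzd P.1.asIdeal hz)).1 _ (by rw [mul_sub, h1, sub_self]))
    have := (at'_isUnit P.1.asIdeal (hs'x P hP))
    rw [← h2] at this
    exact (IsLocalization.AtPrime.isUnit_to_map_iff _ P.1.asIdeal s).1 (isUnit_of_mul_isUnit_left this) hsP
  have e1 := T_mul_right hA hx hs'nzd hy
  rw [hs, T_mul_right hA hx hz hsnzd, T_disjoint hA hx hsnzd (fun P h h' => hsx P h h'),
    T_disjoint hA hx hs'nzd (fun P h h' => hs'x P h h')] at e1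
  linarith

/-- The total vanishes once each relevant prime carries a common parameter. -/
theorem T_eq_zero {t : A} (ht : t ∈ maximalIdeal A) (htC : algebraMap A C t ∈ nonZeroDivisors C) {a b : C}
    (ha : a ∈ nonZeroDivisors C) (hb : b ∈ nonZeroDivisors C)
    (π : ∀ P : PrimeSpectrum C, Localization.AtPrime P.asIdeal)
    (hπ : ∀ P : GP C, a * b ∈ P.1.asIdeal → π P.1 ∈ nonZeroDivisors (Localization.AtPrime P.1.asIdeal) ∧
      (∃ e : ℕ, Associated (π P.1 ^ e) (at' P.1.asIdeal a)) ∧ ∃ e : ℕ, Associated (π P.1 ^ e) (at' P.1.asIdeal b)) :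
    T A a b = 0 := by
  classical
  have hfin : ∀ {z : C}, z ∈ nonZeroDivisors C →
      {P : PrimeSpectrum C | Good P.asIdeal ∧ z ∈ P.asIdeal}.Finite := fun hz => zeros_finite hA hz
  set S₀ := (hfin (mul_mem ha hb)).toFinset
  have hS₀ : ∀ P, P ∈ S₀ ↔ Good P.asIdeal ∧ a * b ∈ P.asIdeal := fun P => (hfin (mul_mem ha hb)).mem_toFinset
  have hπ' : ∀ P ∈ S₀, π P ∈ nonZeroDivisors (Localization.AtPrime P.asIdeal) ∧
      (∃ e : ℕ, Associated (π P ^ e) (at' P.asIdeal a)) ∧ ∃ e : ℕ, Associated (π P ^ e) (at' P.asIdeal b) :=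
    fun P hP => hπ ⟨P, ((hS₀ P).1 hP).1⟩ ((hS₀ P).1 hP).2
  -- families of elements, each like `π` at one prime and invertible at the others of a given finite set
  have fam : ∀ S : Finset (PrimeSpectrum C), (∀ P ∈ S, Good P.asIdeal) → ∃ p : PrimeSpectrum C → C, ∀ P ∈ S₀,
      p P ∈ nonZeroDivisors C ∧ Associated (π P) (at' P.asIdeal (p P)) ∧ ∀ R ∈ S, R ≠ P → p P ∉ R.asIdeal := by
    intro S hS
    have : ∀ P : PrimeSpectrum C, ∃ p : C, P ∈ S₀ →
        p ∈ nonZeroDivisors C ∧ Associated (π P) (at' P.asIdeal p) ∧ ∀ R ∈ S, R ≠ P → p ∉ R.asIdeal := by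
      intro P
      by_cases hP : P ∈ S₀
      swap
      · exact ⟨1, fun h => absurd h hP⟩
      obtain ⟨p, hp, hp'⟩ := exists_prescribed hA ht htC (insert P S)
        (fun R hR => by rcases Finset.mem_insert.1 hR with rfl | h; exacts [((hS₀ _).1 hP).1, hS R h])
        (Function.update (fun R => 1) P (π P)) (fun R hR => by
          by_cases h : R = P
          · subst h; rw [Function.update_self]; exact (hπ' R hP).1
          · rw [Function.update_of_ne h]; exact one_mem _)
      refine ⟨p, fun _ => ⟨hp, ?_, fun R hR hne hmem => ?_⟩⟩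
      · have := hp' P (Finset.mem_insert_self P S)
        rwa [Function.update_self] at this
      · have := hp' R (Finset.mem_insert_of_mem hR)
        rw [Function.update_of_ne hne] at this
        exact (IsLocalization.AtPrime.isUnit_to_map_iff _ R.asIdeal p).1 (this.isUnit isUnit_one) hmem
    choose p hp using this
    exact ⟨p, hp⟩
  obtain ⟨p, hp⟩ := fam S₀ fun P hP => ((hS₀ P).1 hP).1
  have hpn : (∏ P ∈ S₀, p P) ∈ nonZeroDivisors C := prod_mem fun P hP => (hp P hP).1
  set S₁ := S₀ ∪ (hfin hpn).toFinset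
  obtain ⟨p', hp'⟩ := fam S₁ fun P hP => (Finset.mem_union.1 hP).elim (fun h => ((hS₀ P).1 h).1)
    (fun h => ((hfin hpn).mem_toFinset.1 h).1)
  have hp'n : (∏ P ∈ S₀, p' P) ∈ nonZeroDivisors C := prod_mem fun P hP => (hp' P hP).1
  set S₂ := S₁ ∪ (hfin hp'n).toFinset
  obtain ⟨p'', hp''⟩ := fam S₂ fun P hP => (Finset.mem_union.1 hP).elim
    (fun hP => (Finset.mem_union.1 hP).elim (fun h => ((hS₀ P).1 h).1) (fun h => ((hfin hpn).mem_toFinset.1 h).1))
    (fun h => ((hfin hp'n).mem_toFinset.1 h).1)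
  have inS₁ : ∀ {P : PrimeSpectrum C} (R : GP C), P ∈ S₀ → p P ∈ R.1.asIdeal → R.1 ∈ S₁ := fun {P} R hP h =>
    Finset.mem_union_right _ ((hfin hpn).mem_toFinset.2 ⟨R.2, Ideal.mem_of_dvd _ (Finset.dvd_prod_of_mem p hP) h⟩)
  have inS₂ : ∀ {P : PrimeSpectrum C} (R : GP C), P ∈ S₀ → p' P ∈ R.1.asIdeal → R.1 ∈ S₂ := fun {P} R hP h =>
    Finset.mem_union_right _ ((hfin hp'n).mem_toFinset.2 ⟨R.2, Ideal.mem_of_dvd _ (Finset.dvd_prod_of_mem p' hP) h⟩)
  have common : ∀ {P : PrimeSpectrum C}, P ∈ S₀ → T A (p' P) (p P) = 0 := by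
    intro P hP
    obtain ⟨hn, ha1, hu⟩ := hp P hP
    obtain ⟨hn', ha1', hu'⟩ := hp' P hP
    obtain ⟨hn'', ha1'', hu''⟩ := hp'' P hP
    -- the three elements are associated wherever two of them vanish
    have key : ∀ {u v w : C}, Associated (π P) (at' P.asIdeal v) → Associated (π P) (at' P.asIdeal w) →
        (∀ R : GP C, u ∈ R.1.asIdeal → R.1 ≠ P → v ∉ R.1.asIdeal ∧ w ∉ R.1.asIdeal) →
        ∀ R : GP C, u ∈ R.1.asIdeal → Associated (at' R.1.asIdeal v) (at' R.1.asIdeal w) := by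
      intro u v w hv hw hsep R hR
      by_cases hRP : R.1 = P
      · subst hRP; exact hv.symm.trans hw
      · exact (associated_one_iff_isUnit.2 (at'_isUnit _ (hsep R hR hRP).1)).trans
          (associated_one_iff_isUnit.2 (at'_isUnit _ (hsep R hR hRP).2)).symm
    have e1 : T A (p' P) (p P) = T A (p' P) (p'' P) := T_congr hA hn' hn hn'' (key ha1 ha1'' fun R hR hne =>
      ⟨fun h => hu' R.1 (inS₁ R hP h) hne hR, hu'' R.1 (inS₂ R hP hR) hne⟩)
    have e2 : T A (p'' P) (p' P) = T A (p'' P) (p P) := T_congr hA hn'' hn' hn (key ha1' ha1 fun R hR hne =>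
      ⟨fun h => hu'' R.1 (inS₂ R hP h) hne hR, fun h => hu'' R.1 (Finset.mem_union_left _ (inS₁ R hP h)) hne hR⟩)
    have e3 : T A (p P) (p'' P) = T A (p P) (p' P) := T_congr hA hn hn'' hn' (key ha1'' ha1' fun R hR hne =>
      ⟨hu'' R.1 (Finset.mem_union_left _ (inS₁ R hP hR)) hne, hu' R.1 (inS₁ R hP hR) hne⟩)
    have s1 := T_swap hA hn' hn
    have s2 := T_swap hA hn' hn''
    have s3 := T_swap hA hn hn''
    omega
  have exps : ∀ P : PrimeSpectrum C, ∃ i j : ℕ, P ∈ S₀ →
      Associated (π P ^ i) (at' P.asIdeal a) ∧ Associated (π P ^ j) (at' P.asIdeal b) := fun P => by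
    by_cases hP : P ∈ S₀
    · obtain ⟨-, ⟨i, hi⟩, ⟨j, hj⟩⟩ := hπ' P hP; exact ⟨i, j, fun _ => ⟨hi, hj⟩⟩
    · exact ⟨0, 0, fun h => absurd h hP⟩
  choose ea eb hexp using exps
  -- products with the prescribed local behaviour
  have prodAssoc : ∀ (q : PrimeSpectrum C → C) (e : PrimeSpectrum C → ℕ) (v : C) (R : PrimeSpectrum C),
      (∀ P ∈ S₀, R ≠ P → q P ∉ R.asIdeal) →
      (R ∈ S₀ → Associated (π R ^ e R) (at' R.asIdeal v) ∧ Associated (π R) (at' R.asIdeal (q R))) →
      (R ∉ S₀ → v ∉ R.asIdeal) →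
      Associated (at' R.asIdeal v) (at' R.asIdeal (∏ P ∈ S₀, q P ^ e P)) := by
    intro q e v R hother hin hout
    have hrest : ∀ P ∈ S₀, R ≠ P → IsUnit (at' R.asIdeal (q P ^ e P)) := fun P hP hne =>
      at'_isUnit _ fun h => hother P hP hne (R.2.mem_of_pow_mem _ h)
    by_cases hR : R ∈ S₀
    · obtain ⟨h1, h2⟩ := hin hR
      rw [← Finset.mul_prod_erase _ _ hR]
      simp only [at', map_mul, map_prod, map_pow]
      refine (h1.symm.trans (h2.pow_pow)).trans (associated_mul_unit_right _ _ ?_)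
      exact IsUnit.prod_iff.2 fun P hP => by
        simpa [at'] using hrest P (Finset.mem_of_mem_erase hP) (Finset.ne_of_mem_erase hP).symm
    · refine (associated_one_iff_isUnit.2 (at'_isUnit _ (hout hR))).trans (associated_one_iff_isUnit.2 ?_).symm
      simp only [at', map_prod]
      exact IsUnit.prod_iff.2 fun P hP => hrest P hP fun h => hR (h ▸ hP)
  have eB : T A a b = T A a (∏ P ∈ S₀, p P ^ eb P) := by
    refine T_congr hA ha hb (prod_mem fun P hP => pow_mem (hp P hP).1 _) fun R hR => ?_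
    have hR0 : R.1 ∈ S₀ := (hS₀ _).2 ⟨R.2, Ideal.mul_mem_right _ _ hR⟩
    exact prodAssoc p eb b R.1 (fun P hP hne => (hp P hP).2.2 _ hR0 hne)
      (fun h => ⟨(hexp _ h).2, (hp _ h).2.1⟩) (fun h => absurd hR0 h)
  rw [eB, T_prod_pow hA S₀ p eb ha fun P hP => (hp P hP).1]
  refine Finset.sum_eq_zero fun P hP => ?_
  have eA : T A (p P) a = T A (p P) (∏ Q ∈ S₀, p' Q ^ ea Q) := by
    refine T_congr hA (hp P hP).1 ha (prod_mem fun Q hQ => pow_mem (hp' Q hQ).1 _) fun R hR => ?_
    exact prodAssoc p' ea a R.1 (fun Q hQ hne => (hp' Q hQ).2.2 _ (inS₁ R hP hR) hne)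
      (fun h => ⟨(hexp _ h).1, (hp' _ h).2.1⟩)
      (fun h ha' => h ((hS₀ _).2 ⟨R.2, Ideal.mul_mem_right _ _ ha'⟩))
  have hz : ∀ Q ∈ S₀, T A (p P) (p' Q) = 0 := by
    intro Q hQ
    by_cases hQP : Q = P
    · subst hQP
      have := T_swap hA (hp Q hQ).1 (hp' Q hQ).1
      rw [common hQ] at this
      omega
    refine T_disjoint hA (hp P hP).1 (hp' Q hQ).1 fun R h h' => ?_
    by_cases hRQ : R.1 = Q
    · subst hRQ
      exact (hp P hP).2.2 R.1 hQ hQP h
    · exact (hp' Q hQ).2.2 R.1 (inS₁ R hP h) hRQ h'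
  rw [T_prod_pow hA S₀ p' ea (hp P hP).1 fun Q hQ => (hp' Q hQ).1,
    Finset.sum_eq_zero fun Q hQ => by rw [hz Q hQ, mul_zero]] at eA
  rw [T_swap hA ha (hp P hP).1, eA, neg_zero, mul_zero]

end Groth.MilnorKLambda.Key
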