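import Groth.Agent.MilnorKLambda.Key.Symbol
import Groth.Agent.MilnorKLambda.Tame1.Glue

/-!
# From the local data at a prime of the base to the primes of the glued algebra
-/

set_option autoImplicit false
universe u

open IsLocalRing CycAlg

namespace Groth.MilnorKLambda.Key

open Groth.MilnorKLambda

attribute [local instance] Amb.isLocalHom_atPrime

/-- Order is invariant under isomorphism. -/
theorem ord_map_of_bijective {L L' : Type u} [CommRing L] [CommRing L'] (φ : L →+* L') (hφ : Function.Bijective φ) (x : L) :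
    Ring.ord L' (φ x) = Ring.ord L x := by
  let _ : Algebra L L' := φ.toAlgebra
  unfold Ring.ord
  rw [← Module.length_eq_of_surjective (R := L') (S := L) (M := L' ⧸ Ideal.span {φ x}) hφ.2]
  refine LinearEquiv.length_eq (LinearEquiv.symm ?_)
  refine (Submodule.Quotient.equiv _ _ (AlgEquiv.ofBijective (Algebra.ofId L L') hφ).toLinearEquiv ?_).trans
    (Submodule.Quotient.restrictScalarsEquiv L (Ideal.span {φ x}))
  refine SetLike.ext fun z => ?_
  rw [Submodule.mem_map, Submodule.restrictScalars_mem, Ideal.mem_span_singleton']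
  constructor
  · rintro ⟨y, hy, rfl⟩
    obtain ⟨c, rfl⟩ := Ideal.mem_span_singleton'.mp hy
    exact ⟨φ c, (map_mul φ c x).symm⟩
  · rintro ⟨c, rfl⟩
    obtain ⟨c', rfl⟩ := hφ.2 c
    exact ⟨c' * x, Ideal.mem_span_singleton'.mpr ⟨c', rfl⟩, map_mul φ c' x⟩

theorem oP_eq_of_liesOver {A C : Type u} [CommRing A] [CommRing C] [Algebra A C] (q : Ideal A) [q.IsPrime]
    (P : Ideal C) [P.IsPrime] [P.LiesOver q] (z : P.ResidueField) :
    oP A P z = CycAlg.ordFrac (A ⧸ q) q.ResidueField
      (letI := Localization.AtPrime.algebraOfLiesOver q P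
       Algebra.norm q.ResidueField z) := by
  obtain rfl := P.over_def q
  rfl

theorem ordFrac_prod {R : Type u} [CommRing R] [IsDomain R] [IsNoetherianRing R] [Ring.KrullDimLE 1 R]
    {K : Type u} [Field K] [Algebra R K] [IsFractionRing R K] {ι : Type*} (s : Finset ι) (f : ι → K)
    (hf : ∀ i ∈ s, f i ≠ 0) : CycAlg.ordFrac R K (∏ i ∈ s, f i) = ∑ i ∈ s, CycAlg.ordFrac R K (f i) := by
  classical
  induction s using Finset.induction_on with
  | empty => simp [Groth.RefRank.ordFrac_one']
  | insert i s hi ih =>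
    rw [Finset.prod_insert hi, Finset.sum_insert hi, Groth.RefRank.ordFrac_mul' (hf i (Finset.mem_insert_self i s))
      (Finset.prod_ne_zero_iff.2 fun j hj => hf j (Finset.mem_insert_of_mem hj)),
      ih fun j hj => hf j (Finset.mem_insert_of_mem hj)]

section

variable {A : Type u} [CommRing A] [IsLocalRing A] [IsNoetherianRing A]
  {C : Type u} [CommRing C] [Algebra A C] [Module.Finite A C] (q : Ideal A) [q.IsPrime]
  {B : Type u} [CommRing B] [Algebra (Localization.AtPrime q) B] [Module.Finite (Localization.AtPrime q) B]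
  (ψ : C →+* B)
  (hψ : ∀ x : A, ψ (algebraMap A C x) = algebraMap (Localization.AtPrime q) B (algebraMap A _ x))
  (hs : ∀ y : B, ∃ s ∈ q.primeCompl, ∃ c : C, ψ c = algebraMap (Localization.AtPrime q) B (algebraMap A _ s) * y)
  (hk : ∀ c : C, ψ c = 0 → ∃ s ∈ q.primeCompl, algebraMap A C s * c = 0)

include hψ hs hk

omit [IsLocalRing A] [IsNoetherianRing A] [Module.Finite A C] hs hk in
theorem under_comap (M : Ideal B) [M.IsMaximal] : (M.comap ψ).under A = q := by
  ext x
  change ψ (algebraMap A C x) ∈ M ↔ _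
  rw [hψ, ← Ideal.mem_comap (f := algebraMap (Localization.AtPrime q) B), Amb.comap_eq_maximalIdeal (R := Localization.AtPrime q) M]
  exact IsLocalization.AtPrime.to_map_mem_maximal_iff _ q x

omit [IsLocalRing A] [IsNoetherianRing A] [Module.Finite A C] hk in
theorem comap_injective (M M' : Ideal B) [M.IsMaximal] [M'.IsMaximal] (h : M.comap ψ = M'.comap ψ) : M = M' := by
  have key : ∀ (M M' : Ideal B) [M.IsMaximal] [M'.IsMaximal], M.comap ψ = M'.comap ψ → M ≤ M' := by
    intro M M' _ _ h y hy
    obtain ⟨s, hs', c, hc⟩ := hs y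
    have hcM : c ∈ M'.comap ψ := h ▸ (show c ∈ M.comap ψ by rw [Ideal.mem_comap, hc]; exact Ideal.mul_mem_left _ _ hy)
    rw [Ideal.mem_comap, hc] at hcM
    refine ((Ideal.IsMaximal.isPrime ‹M'.IsMaximal›).mem_or_mem hcM).resolve_left fun hsM => hs' ?_
    have hh := under_comap q ψ hψ M'
    rw [← hh]
    change ψ (algebraMap A C s) ∈ M'
    rw [hψ]; exact hsM
  exact le_antisymm (key M M' h) (key M' M h.symm)

omit [IsLocalRing A] [IsNoetherianRing A] [Module.Finite A C] in
theorem comap_surjective (P : Ideal C) [P.IsPrime] (hP : P.under A = q) :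
    ∃ M : Ideal B, M.IsMaximal ∧ M.comap ψ = P := by
  let : Algebra C B := ψ.toAlgebra
  have : IsLocalization (Algebra.algebraMapSubmonoid C q.primeCompl) B := by
    refine ⟨?_, fun y => ?_, fun {c c'} h => ?_⟩
    · rintro ⟨_, s, hs', rfl⟩
      change IsUnit (ψ (algebraMap A C s))
      rw [hψ]
      exact (IsLocalization.map_units (Localization.AtPrime q) ⟨s, hs'⟩).map _
    · obtain ⟨s, hs', c, hc⟩ := hs y
      refine ⟨⟨c, ⟨_, s, hs', rfl⟩⟩, ?_⟩
      change y * ψ (algebraMap A C s) = ψ c
      rw [hc, hψ, mul_comm]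
    · have h' : ψ (c - c') = 0 := by rw [map_sub, sub_eq_zero]; exact h
      obtain ⟨s, hs', hsc⟩ := hk _ h'
      exact ⟨⟨_, s, hs', rfl⟩, sub_eq_zero.1 (by rw [← mul_sub]; exact hsc)⟩
  have hdisj : Disjoint ((Algebra.algebraMapSubmonoid C q.primeCompl : Submonoid C) : Set C) (P : Set C) := by
    rw [Set.disjoint_left]
    rintro _ ⟨s, hs', rfl⟩ hsP
    exact hs' (hP ▸ (hsP : s ∈ P.under A))
  set M := P.map ψ
  have hM : M.IsPrime := IsLocalization.isPrime_of_isPrime_disjoint _ B P inferInstance hdisj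
  have hcomap : M.comap ψ = P := IsLocalization.under_map_of_isPrime_disjoint _ B ‹P.IsPrime› hdisj
  refine ⟨M, ?_, hcomap⟩
  refine Ideal.isMaximal_of_isIntegral_of_isMaximal_comap (R := Localization.AtPrime q) M ?_
  have he : M.comap (algebraMap (Localization.AtPrime q) B) = maximalIdeal (Localization.AtPrime q) := by
    rw [← IsLocalization.map_comap q.primeCompl _ (M.comap (algebraMap (Localization.AtPrime q) B)),
      show (M.comap (algebraMap (Localization.AtPrime q) B)).under A = q from ?_, Localization.AtPrime.map_eq_maximalIdeal]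
    ext x
    change algebraMap _ B (algebraMap A _ x) ∈ M ↔ _
    rw [← hψ, ← Ideal.mem_comap (f := ψ), hcomap, ← hP]
    rfl
  rw [he]
  exact maximalIdeal.isMaximal _

omit [IsLocalRing A] [IsNoetherianRing A] [Module.Finite A C] in
theorem locHom_bijective (M : Ideal B) [M.IsMaximal] :
    Function.Bijective (Localization.localRingHom (M.comap ψ) M ψ rfl) := by
  have hunit : ∀ {s : A}, s ∈ q.primeCompl → algebraMap (Localization.AtPrime q) B (algebraMap A _ s) ∉ M := fun {s} hs' h =>
    Ideal.IsMaximal.ne_top ‹_› (Ideal.eq_top_of_isUnit_mem _ h ((IsLocalization.map_units (Localization.AtPrime q) ⟨s, hs'⟩).map _))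
  refine ⟨(injective_iff_map_eq_zero _).2 fun z hz => ?_, fun z => ?_⟩
  · obtain ⟨c, ⟨d, hd⟩, rfl⟩ := IsLocalization.exists_mk'_eq (M.comap ψ).primeCompl z
    rw [Localization.localRingHom_mk', IsLocalization.mk'_eq_zero_iff] at hz
    obtain ⟨⟨w, hw⟩, hwc⟩ := hz
    obtain ⟨s, hs', c', hc'⟩ := hs w
    obtain ⟨s', hs'', hsc⟩ := hk (c' * c) (by rw [map_mul, hc', mul_assoc, hwc, mul_zero])
    rw [IsLocalization.mk'_eq_zero_iff]
    refine ⟨⟨algebraMap A C s' * c', fun h => ?_⟩, by rw [mul_assoc]; exact hsc⟩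
    have h : ψ (algebraMap A C s' * c') ∈ M := h
    rw [map_mul, hψ, hc'] at h
    exact ((Ideal.IsMaximal.isPrime ‹_›).mem_or_mem h).elim (hunit hs'') fun h =>
      ((Ideal.IsMaximal.isPrime ‹_›).mem_or_mem h).elim (hunit hs') hw
  · obtain ⟨y, ⟨w, hw⟩, rfl⟩ := IsLocalization.exists_mk'_eq M.primeCompl z
    obtain ⟨s₁, hs₁, c₁, hc₁⟩ := hs y
    obtain ⟨s₂, hs₂, c₂, hc₂⟩ := hs w
    have hd : algebraMap A C s₁ * c₂ ∈ (M.comap ψ).primeCompl := fun h => by
      have h : ψ (algebraMap A C s₁ * c₂) ∈ M := h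
      rw [map_mul, hψ, hc₂] at h
      exact ((Ideal.IsMaximal.isPrime ‹_›).mem_or_mem h).elim (hunit hs₁) fun h =>
        ((Ideal.IsMaximal.isPrime ‹_›).mem_or_mem h).elim (hunit hs₂) hw
    refine ⟨IsLocalization.mk' _ (algebraMap A C s₂ * c₁) (⟨_, hd⟩ : (M.comap ψ).primeCompl), ?_⟩
    rw [Localization.localRingHom_mk', IsLocalization.mk'_eq_iff_eq]
    congr 1
    simp only [map_mul, hψ, hc₁, hc₂]
    ring

omit [IsNoetherianRing A] hs in
theorem algebraMap_atPrime_eq (M : Ideal B) [M.IsMaximal] (x : A) :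
    Localization.localRingHom (M.comap ψ) M ψ rfl (at' (M.comap ψ) (algebraMap A C x)) =
      algebraMap (Localization.AtPrime q) (Localization.AtPrime M) (algebraMap A _ x) := by
  rw [at', Localization.localRingHom_to_map, hψ, ← IsScalarTower.algebraMap_apply]

theorem nrm_transfer (M : Ideal B) [M.IsMaximal] (z : (M.comap ψ).ResidueField) :
    CycAlg.ordFrac (A ⧸ q) q.ResidueField (Amb.nrm (Localization.AtPrime q) M
      (haveI := Localization.isLocalHom_localRingHom (M.comap ψ) M ψ rfl
       ResidueField.map (Localization.localRingHom (M.comap ψ) M ψ rfl) z)) = oP A (M.comap ψ) z := by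
  have : (M.comap ψ).LiesOver q := ⟨(under_comap q ψ hψ M).symm⟩
  let := Localization.AtPrime.algebraOfLiesOver q (M.comap ψ)
  have hloc := Localization.isLocalHom_localRingHom (M.comap ψ) M ψ rfl
  set φ := Localization.localRingHom (M.comap ψ) M ψ rfl
  have hb : Function.Bijective (ResidueField.map φ) := by
    refine ⟨RingHom.injective _, fun y => ?_⟩
    obtain ⟨y, rfl⟩ := residue_surjective y
    obtain ⟨z, rfl⟩ := (locHom_bijective q ψ hψ hs hk M).2 y
    exact ⟨residue _ z, ResidueField.map_residue φ z⟩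
  rw [oP_eq_of_liesOver q]
  congr 1
  rw [Algebra.norm_eq_of_equiv_equiv (RingEquiv.refl q.ResidueField) (RingEquiv.ofBijective _ hb) ?_ z]
  · rfl
  refine Ideal.ResidueField.ringHom_ext (RingHom.ext fun x => ?_)
  simp only [RingHom.comp_apply, RingHom.coe_coe, RingEquiv.refl_apply, RingEquiv.ofBijective_apply]
  rw [IsScalarTower.algebraMap_apply A (Localization.AtPrime q) q.ResidueField, ResidueField.algebraMap_eq,
    ResidueField.algebraMap_residue, ResidueField.algebraMap_residue, ResidueField.map_residue,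
    ← algebraMap_atPrime_eq q ψ hψ hk M x]
  congr 2
  exact (IsScalarTower.algebraMap_apply A C (Localization.AtPrime (M.comap ψ)) x).symm.trans
    (IsScalarTower.algebraMap_apply A (Localization.AtPrime q) (Localization.AtPrime (M.comap ψ)) x)

end

end Groth.MilnorKLambda.Key
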